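import Cfsg.Agent.Lib.KnownSimple.GLClassBound.Basic

/-!
# Primary blocks: ranks and determinants
-/

set_option autoImplicit false

namespace CfsgLib.SLBound

open Polynomial Module CfsgLib.SSClasses CfsgLib.GLClassBound

universe u

variable {F : Type u} [Field F]

/-- Multiplication by `k` on `F[X] ⧸ (f)`. -/
noncomputable abbrev mulEnd (f k : F[X]) : Module.End F (F[X] ⧸ Ideal.span {f}) :=
  (LinearMap.lsmul F[X] (F[X] ⧸ Ideal.span {f}) k).restrictScalars F

theorem finite_quot {f : F[X]} (hf : f ≠ 0) : Module.Finite F (F[X] ⧸ Ideal.span {f}) :=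
  (AdjoinRoot.powerBasis (f := f) hf).finite

theorem mulEnd_mk (f k y : F[X]) :
    mulEnd f k (Ideal.Quotient.mk (Ideal.span {f}) y) = Ideal.Quotient.mk _ (k * y) := rfl

theorem finrank_range_mulEnd_pow {P : F[X]} (hP : P ≠ 0) (m k : ℕ) :
    finrank F (LinearMap.range (mulEnd (P ^ m) (P ^ k))) = P.natDegree * (m - k) := by
  let g : F[X] →ₗ[F[X]] F[X] ⧸ Ideal.span {P ^ m} :=
    (LinearMap.lsmul F[X] _ (P ^ k)).comp (Ideal.Quotient.mkₐ F[X] _).toLinearMap
  have hker : LinearMap.ker g = Ideal.span {P ^ (m - k)} := by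
    ext p
    show P ^ k • Ideal.Quotient.mk (Ideal.span {P ^ m}) p = 0 ↔ _
    rw [show P ^ k • Ideal.Quotient.mk (Ideal.span {P ^ m}) p =
      Ideal.Quotient.mk _ (P ^ k * p) from rfl, Ideal.Quotient.eq_zero_iff_mem,
      Ideal.mem_span_singleton, Ideal.mem_span_singleton]
    rcases Nat.lt_or_ge m k with h | h
    · rw [show m - k = 0 by omega, pow_zero]
      exact ⟨fun _ => one_dvd _, fun _ => (pow_dvd_pow P h.le).trans (dvd_mul_right _ _)⟩
    · rw [show P ^ m = P ^ k * P ^ (m - k) by rw [← pow_add]; congr 1; omega]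
      exact mul_dvd_mul_iff_left (pow_ne_zero _ hP)
  have hr : LinearMap.range g =
      LinearMap.range (LinearMap.lsmul F[X] (F[X] ⧸ Ideal.span {P ^ m}) (P ^ k)) :=
    LinearMap.range_comp_of_range_eq_top _ (LinearMap.range_eq_top.2 Ideal.Quotient.mk_surjective)
  let e : (F[X] ⧸ Ideal.span {P ^ (m - k)}) ≃ₗ[F[X]]
      LinearMap.range (LinearMap.lsmul F[X] (F[X] ⧸ Ideal.span {P ^ m}) (P ^ k)) :=
    ((Submodule.quotEquivOfEq _ _ hker.symm).trans g.quotKerEquivRange).trans (LinearEquiv.ofEq _ _ hr)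
  exact ((e.restrictScalars F).finrank_eq.symm.trans (finrank_quotient_span_eq_natDegree)).trans
    (by rw [natDegree_pow, mul_comm])

theorem finrank_range_mulEnd_coprime {f k : F[X]} (h : IsCoprime k f) :
    finrank F (LinearMap.range (mulEnd f k)) = f.natDegree := by
  have hs : Function.Surjective (mulEnd f k) := by
    intro x
    obtain ⟨y, rfl⟩ := Ideal.Quotient.mk_surjective x
    obtain ⟨a, b, hab⟩ := h
    refine ⟨Ideal.Quotient.mk _ (a * y), ?_⟩
    rw [mulEnd_mk, Ideal.Quotient.eq, Ideal.mem_span_singleton]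
    exact ⟨-(b * y), by linear_combination y * hab⟩
  rw [LinearMap.range_eq_top.2 hs, finrank_top, finrank_quotient_span_eq_natDegree]

/-- The kernel-image splitting of the determinant. -/
theorem det_mulEnd_pow {P : F[X]} (hP : P ≠ 0) (k : F[X]) : ∀ e : ℕ,
    LinearMap.det (mulEnd (P ^ e) k) = LinearMap.det (mulEnd P k) ^ e
  | 0 => by
    haveI := finite_quot (F := F) (f := P ^ 0) (pow_ne_zero _ hP)
    rw [pow_zero (LinearMap.det (mulEnd P k)), LinearMap.det_eq_one_of_finrank_eq_zero]
    rw [finrank_quotient_span_eq_natDegree, pow_zero, natDegree_one]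
  | e + 1 => by
    haveI := finite_quot (F := F) (f := P ^ (e + 1)) (pow_ne_zero _ hP)
    haveI := finite_quot (F := F) (f := P ^ e) (pow_ne_zero _ hP)
    haveI := finite_quot (F := F) hP
    let ι : (F[X] ⧸ Ideal.span {P ^ e}) →ₗ[F[X]] (F[X] ⧸ Ideal.span {P ^ (e + 1)}) :=
      Submodule.mapQ _ _ (LinearMap.lsmul F[X] F[X] P) (by
        intro y hy
        rw [Ideal.mem_span_singleton] at hy
        show P • y ∈ Ideal.span {P ^ (e + 1)}
        rw [Ideal.mem_span_singleton, smul_eq_mul, pow_succ']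
        exact mul_dvd_mul_left P hy)
    let π : (F[X] ⧸ Ideal.span {P ^ (e + 1)}) →ₗ[F[X]] (F[X] ⧸ Ideal.span {P}) :=
      Submodule.mapQ _ _ LinearMap.id (by
        intro y hy
        rw [Ideal.mem_span_singleton] at hy
        show y ∈ Ideal.span {P}
        rw [Ideal.mem_span_singleton]
        exact (dvd_pow_self P (Nat.succ_ne_zero e)).trans hy)
    have hι : Function.Injective (ι.restrictScalars F) := by
      rw [← LinearMap.ker_eq_bot, LinearMap.ker_eq_bot']
      intro x hx
      obtain ⟨y, rfl⟩ := Ideal.Quotient.mk_surjective x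
      replace hx : Ideal.Quotient.mk (Ideal.span {P ^ (e + 1)}) (P * y) = 0 := hx
      rw [Ideal.Quotient.eq_zero_iff_mem, Ideal.mem_span_singleton, pow_succ'] at hx
      rw [Ideal.Quotient.eq_zero_iff_mem, Ideal.mem_span_singleton]
      exact (mul_dvd_mul_iff_left hP).1 hx
    let W : Submodule F (F[X] ⧸ Ideal.span {P ^ (e + 1)}) := LinearMap.range (ι.restrictScalars F)
    have hW : W = LinearMap.ker (π.restrictScalars F) := by
      ext x
      obtain ⟨y, rfl⟩ := Ideal.Quotient.mk_surjective x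
      constructor
      · rintro ⟨z, hz⟩
        obtain ⟨z, rfl⟩ := Ideal.Quotient.mk_surjective z
        rw [← hz]
        show Ideal.Quotient.mk (Ideal.span {P}) (P * z) = 0
        rw [Ideal.Quotient.eq_zero_iff_mem, Ideal.mem_span_singleton]
        exact dvd_mul_right _ _
      · intro h
        replace h : Ideal.Quotient.mk (Ideal.span {P}) y = 0 := h
        rw [Ideal.Quotient.eq_zero_iff_mem, Ideal.mem_span_singleton] at h
        obtain ⟨z, rfl⟩ := h
        exact ⟨Ideal.Quotient.mk _ z, rfl⟩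
    have hπ : Function.Surjective (π.restrictScalars F) := fun x => by
      obtain ⟨y, rfl⟩ := Ideal.Quotient.mk_surjective x
      exact ⟨Ideal.Quotient.mk _ y, rfl⟩
    have hinv : W ≤ W.comap (mulEnd (P ^ (e + 1)) k) := by
      rintro x ⟨z, rfl⟩
      exact ⟨mulEnd (P ^ e) k z, (map_smul ι k z)⟩
    let eW : (F[X] ⧸ Ideal.span {P ^ e}) ≃ₗ[F] W := LinearEquiv.ofInjective _ hι
    let eQ : (F[X] ⧸ Ideal.span {P}) ≃ₗ[F] (F[X] ⧸ Ideal.span {P ^ (e + 1)}) ⧸ W :=
      ((Submodule.quotEquivOfEq _ _ hW).trans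
        (LinearMap.quotKerEquivOfSurjective _ hπ)).symm
    have h1 : (mulEnd (P ^ (e + 1)) k).restrict hinv = eW.conj (mulEnd (P ^ e) k) := by
      refine LinearMap.ext fun w => ?_
      obtain ⟨z, rfl⟩ := eW.surjective w
      rw [LinearEquiv.conj_apply_apply, LinearEquiv.symm_apply_apply]
      exact Subtype.ext (map_smul ι k z).symm
    have h2 : W.mapQ W (mulEnd (P ^ (e + 1)) k) hinv = eQ.conj (mulEnd P k) := by
      refine LinearMap.ext fun w => ?_
      obtain ⟨x, rfl⟩ := Submodule.Quotient.mk_surjective W w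
      rw [LinearEquiv.conj_apply_apply]
      apply eQ.symm.injective
      rw [LinearEquiv.symm_apply_apply]
      exact map_smul π k x
    haveI : Module.Free F W := Module.Free.of_divisionRing F _
    haveI : Module.Free F ((F[X] ⧸ Ideal.span {P ^ (e + 1)}) ⧸ W) := Module.Free.of_divisionRing F _
    rw [LinearMap.det_eq_det_mul_det W _ hinv, h1, h2,
      det_equiv_conj (M := F[X] ⧸ Ideal.span {P ^ e}) (N := W) eW,
      det_equiv_conj (M := F[X] ⧸ Ideal.span {P}) (N := (F[X] ⧸ Ideal.span {P ^ (e + 1)}) ⧸ W) eQ,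
      det_mulEnd_pow hP k e, pow_succ]

theorem det_mulEnd_eq_norm {P : F[X]} (hP : P ≠ 0) (k : F[X]) :
    LinearMap.det (mulEnd P k) = Algebra.norm F (AdjoinRoot.mk P k) := by
  haveI := finite_quot (F := F) hP
  rw [Algebra.norm_apply]
  have h : (mulEnd P k : Module.End F (AdjoinRoot P)) = Algebra.lmul F (AdjoinRoot P) (AdjoinRoot.mk P k) := by
    refine LinearMap.ext fun x => ?_
    obtain ⟨y, rfl⟩ := AdjoinRoot.mk_surjective x
    show AdjoinRoot.mk P (k * y) = AdjoinRoot.mk P k * AdjoinRoot.mk P y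
    rw [map_mul]
  exact congrArg (fun g : Module.End F (AdjoinRoot P) => LinearMap.det g) h

theorem det_mulEnd_X {P : F[X]} (hP : P.Monic) (hirr : Irreducible P) :
    LinearMap.det (mulEnd P X) = (-1) ^ P.natDegree * P.coeff 0 := by
  rw [det_mulEnd_eq_norm hP.ne_zero, AdjoinRoot.mk_X]
  haveI : Fact (Irreducible P) := ⟨hirr⟩
  have h := Algebra.PowerBasis.norm_gen_eq_coeff_zero_minpoly (AdjoinRoot.powerBasis hP.ne_zero)
  rw [AdjoinRoot.powerBasis_gen, AdjoinRoot.powerBasis_dim, AdjoinRoot.minpoly_root hP.ne_zero,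
    hP.leadingCoeff, inv_one, map_one, mul_one] at h
  exact h

/-- The determinant of a block diagonal map. -/
theorem det_piMap {ι : Type*} [Fintype ι] {M : ι → Type*} [∀ i, AddCommGroup (M i)]
    [∀ i, Module F (M i)] [∀ i, Module.Finite F (M i)] (f : ∀ i, Module.End F (M i)) :
    LinearMap.det (LinearMap.pi fun i => (f i).comp (LinearMap.proj i)) = ∏ i, LinearMap.det (f i) := by
  let e := Fintype.equivFin ι
  letI : LinearOrder ι := LinearOrder.lift' e e.injective
  let b := fun i => Module.finBasis F (M i)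
  let B := Pi.basis b
  rw [← LinearMap.det_toMatrix B]
  have h : LinearMap.toMatrix B B (LinearMap.pi fun i => (f i).comp (LinearMap.proj i)) =
      Matrix.blockDiagonal' fun i => LinearMap.toMatrix (b i) (b i) (f i) := by
    ext ⟨i, a⟩ ⟨j, c⟩
    rw [LinearMap.toMatrix_apply, Matrix.blockDiagonal'_apply, Pi.basis_repr, Pi.basis_apply,
      LinearMap.pi_apply, LinearMap.comp_apply, LinearMap.proj_apply]
    rcases eq_or_ne i j with rfl | hij
    · rw [dif_pos rfl, Pi.single_eq_same, LinearMap.toMatrix_apply]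
      rfl
    · rw [dif_neg hij, Pi.single_eq_of_ne hij, map_zero, map_zero]
      rfl
  rw [h]
  have hblock : ∀ i, (Matrix.blockDiagonal' fun i => LinearMap.toMatrix (b i) (b i) (f i)).toSquareBlock Sigma.fst i =
      Matrix.reindex (Equiv.sigmaSubtype i).symm (Equiv.sigmaSubtype i).symm (LinearMap.toMatrix (b i) (b i) (f i)) := by
    intro i
    ext ⟨⟨x, a⟩, hx⟩ ⟨⟨y, c⟩, hy⟩
    obtain rfl : x = i := hx
    obtain rfl : y = x := hy
    simp only [Matrix.toSquareBlock_def, Matrix.of_apply, Matrix.blockDiagonal'_apply_eq, Matrix.reindex_apply,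
      Equiv.symm_symm, Matrix.submatrix_apply]
    rfl
  rw [(Matrix.blockTriangular_blockDiagonal' _).det_fintype]
  simp only [hblock, Matrix.det_reindex_self]
  exact Finset.prod_congr rfl fun i _ => LinearMap.det_toMatrix (b i) (f i)

theorem finrank_range_piMap {ι : Type*} [Fintype ι] {M : ι → Type*} [∀ i, AddCommGroup (M i)]
    [∀ i, Module F (M i)] [∀ i, Module.Finite F (M i)] (f : ∀ i, Module.End F (M i)) :
    finrank F (LinearMap.range (LinearMap.pi fun i => (f i).comp (LinearMap.proj i))) =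
      ∑ i, finrank F (LinearMap.range (f i)) := by
  have h : LinearMap.range (LinearMap.pi fun i => (f i).comp (LinearMap.proj i)) =
      Submodule.pi Set.univ fun i => LinearMap.range (f i) := by
    ext v
    simp only [LinearMap.mem_range, Submodule.mem_pi, Set.mem_univ, forall_const]
    constructor
    · rintro ⟨w, rfl⟩ i
      exact ⟨w i, rfl⟩
    · intro hv
      choose w hw using hv
      exact ⟨w, _root_.funext hw⟩
  let eq : (Submodule.pi Set.univ fun i => LinearMap.range (f i)) ≃ₗ[F] ∀ i, LinearMap.range (f i) :=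
    { toFun := fun v i => ⟨v.1 i, v.2 i trivial⟩
      invFun := fun v => ⟨fun i => (v i).1, fun i _ => (v i).2⟩
      left_inv := fun _ => rfl
      right_inv := fun _ => rfl
      map_add' := fun _ _ => rfl
      map_smul' := fun _ _ => rfl }
  haveI : ∀ i, Module.Free F (LinearMap.range (f i)) := fun i => Module.Free.of_divisionRing F _
  rw [h, eq.finrank_eq, Module.finrank_pi_fintype]

end CfsgLib.SLBound
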