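import Cfsg.Agent.Lib.KnownSimple.SLClassBound.Tuples

/-!
# Weighted counts of tuples with determinant one
-/

set_option autoImplicit false

namespace CfsgLib.SLBound

open Polynomial CfsgLib.GLClassBound

universe v

variable (F : Type v) [Field F] [Fintype F]

/-- Bound for the number of classes: each tuple counted with the gcd of `q - 1` and its smallest part. -/
noncomputable def tupWeight (e m : ℕ) : ℕ :=
  ∑ s ∈ Finset.Icc 1 m, Nat.gcd (Fintype.card F - 1) s * Nat.card {T : DTup F e m // minPart T.1.1 = s}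

variable {F}

theorem sum_gcd_minPart (e m : ℕ) (hm : 0 < m) [Fintype (DTup F e m)] :
    ∑ T : DTup F e m, Nat.gcd (Fintype.card F - 1) (minPart T.1.1) = tupWeight F e m := by
  classical
  have hmem : ∀ T : DTup F e m, minPart T.1.1 ∈ Finset.Icc 1 m := fun T => by
    obtain ⟨⟨j, hj, hjd⟩, -⟩ := minPart_spec hm T.1
    rw [Finset.mem_Icc]
    have := j.2
    omega
  rw [tupWeight, ← Finset.sum_fiberwise_of_maps_to (fun T _ => hmem T)]
  refine Finset.sum_congr rfl fun s _ => ?_
  rw [Finset.sum_congr rfl (fun T hT => by rw [(Finset.mem_filter.1 hT).2]), Finset.sum_const, smul_eq_mul,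
    mul_comm, Nat.card_eq_fintype_card, Fintype.card_subtype]

theorem tupWeight_succ (e k : ℕ) :
    tupWeight F e (k + 1) = Nat.card {T : DTup F e (k + 1) // minPart T.1.1 = 1} +
      ∑ s ∈ Finset.Icc 2 (k + 1),
        Nat.gcd (Fintype.card F - 1) s * Nat.card {T : DTup F e (k + 1) // minPart T.1.1 = s} := by
  rw [tupWeight, ← Finset.insert_Icc_succ_left_eq_Icc (show 1 ≤ k + 1 by omega)]
  rw [Finset.sum_insert (by simp), Nat.gcd_one_right, one_mul]
  rfl

theorem tupWeight_one (e : ℕ) : tupWeight F e 1 ≤ 1 := by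
  rw [tupWeight_succ e 0, Finset.Icc_eq_empty (by omega), Finset.sum_empty, add_zero]
  refine (card_minPart_one_sum e 0).trans ?_
  simpa using card_rest_zero (F := F) 0

theorem tupWeight_two (e : ℕ) :
    tupWeight F e 2 ≤ Fintype.card F + 4 ∧ 2 * tupWeight F e 2 ≤ 5 * Fintype.card F := by
  have h0 := card_rest_zero (F := F) 1
  have h1 := card_rest_one (F := F) 1
  have hA := card_minPart_one_sum (F := F) e 1
  simp only [Finset.sum_range_succ, Finset.sum_range_zero, Nat.sub_zero, Nat.sub_self, h1, mul_zero, zero_add,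
    pow_one] at hA
  have hA' := hA.trans (Nat.mul_le_mul_left _ h0)
  have hB := card_minPart_top (F := F) e 1 le_rfl
  have hW := tupWeight_succ (F := F) e 1
  simp only [show Finset.Icc 2 (1 + 1) = {2} from rfl, Finset.sum_singleton] at hW
  have hq := Fintype.one_lt_card (α := F)
  rw [Nat.gcd_comm] at hW
  norm_num only at hA' hB hW ⊢
  set g := Nat.gcd 2 (Fintype.card F - 1)
  have hg : g ≤ 2 := Nat.le_of_dvd (by omega) (Nat.gcd_dvd_left _ _)
  have hg' : g ≤ Fintype.card F - 1 := Nat.le_of_dvd (by omega) (Nat.gcd_dvd_right _ _)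
  have hBg := Nat.mul_le_mul_left g hB
  rcases (show g = 0 ∨ g = 1 ∨ g = 2 by omega) with h | h | h <;> rw [h] at hBg hW hg' <;> omega

theorem tupWeight_q_two (e m : ℕ) (hm : 0 < m) (hq : Fintype.card F = 2) : tupWeight F e m ≤ 2 ^ m := by
  haveI := finite_dTup (F := F) e m
  haveI := (card_tup F m m).1
  letI := Fintype.ofFinite (DTup F e m)
  rw [← sum_gcd_minPart e m hm, hq]
  have h := (Nat.card_le_card_of_injective (fun T : DTup F e m => T.1) Subtype.val_injective).trans
    ((card_tup F m m).2.trans (count_bound (Fintype.card F - 1) m m).1)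
  simpa [hq] using h

theorem geometric_weight (q : ℕ) (hq : 3 ≤ q) : ∀ t c M, c + t ≤ M + 1 →
    4 * ∑ i ∈ Finset.range t, (c + i) * q ^ (M - (c + i)) ≤ (6 * c + 3) * q ^ (M - c) := by
  intro t
  induction t with
  | zero => intro c M _; simp
  | succ t ih =>
    intro c M h
    rw [Finset.sum_range_succ', add_zero, Nat.mul_add]
    rcases Nat.eq_zero_or_pos t with rfl | ht
    · simp only [Finset.range_zero, Finset.sum_empty, mul_zero, zero_add]
      rw [← mul_assoc]
      exact Nat.mul_le_mul_right _ (by omega)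
    have h1 := ih (c + 1) M (by omega)
    have h2 : ∑ i ∈ Finset.range t, (c + 1 + i) * q ^ (M - (c + 1 + i)) =
        ∑ i ∈ Finset.range t, (c + (i + 1)) * q ^ (M - (c + (i + 1))) :=
      Finset.sum_congr rfl fun i _ => by rw [show c + 1 + i = c + (i + 1) by omega]
    rw [h2] at h1
    have h3 : q ^ (M - c) = q * q ^ (M - (c + 1)) := by
      rw [← pow_succ']; congr 1; omega
    rw [h3]
    have h4 : 6 * (c + 1) + 3 + 4 * (c * q) ≤ (6 * c + 3) * q := by nlinarith
    have h5 := Nat.mul_le_mul_right (q ^ (M - (c + 1))) h4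
    rw [add_mul] at h5
    linarith

theorem gcd_le_right' (u s : ℕ) (hs : 0 < s) : Nat.gcd u s ≤ s := Nat.le_of_dvd hs (Nat.gcd_dvd_right _ _)

theorem two_tupWeight_rest (hq : 3 ≤ Fintype.card F) (e k : ℕ) (hk : 4 ≤ k) :
    2 * ∑ s ∈ Finset.Icc 2 (k + 1),
        Nat.gcd (Fintype.card F - 1) s * Nat.card {T : DTup F e (k + 1) // minPart T.1.1 = s} ≤
      3 * Fintype.card F ^ (k - 1) := by
  classical
  set q := Fintype.card F
  -- only the parts up to half of the total and the total itself occur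
  have hzero : ∀ s ∈ Finset.Icc 2 (k + 1), s ∉ Finset.Icc 2 ((k + 1) / 2) → s ≠ k + 1 →
      Nat.card {T : DTup F e (k + 1) // minPart T.1.1 = s} = 0 := by
    intro s hs hs' hne
    haveI : IsEmpty {T : DTup F e (k + 1) // minPart T.1.1 = s} := ⟨fun T => by
      rcases minPart_half T.1 with h | h <;> rw [T.2] at h
      · exact hne h
      · simp only [Finset.mem_Icc] at hs hs'
        omega⟩
    exact Nat.card_of_isEmpty
  have hsplit : ∑ s ∈ Finset.Icc 2 (k + 1),
        Nat.gcd (q - 1) s * Nat.card {T : DTup F e (k + 1) // minPart T.1.1 = s} =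
      ∑ s ∈ insert (k + 1) (Finset.Icc 2 ((k + 1) / 2)),
        Nat.gcd (q - 1) s * Nat.card {T : DTup F e (k + 1) // minPart T.1.1 = s} := by
    refine (Finset.sum_subset ?_ ?_).symm
    · intro s hs
      simp only [Finset.mem_insert, Finset.mem_Icc] at hs ⊢
      omega
    · intro s hs hs'
      rw [Finset.mem_insert, not_or] at hs'
      rw [hzero s hs hs'.2 hs'.1, mul_zero]
  rw [hsplit, Finset.sum_insert (by simp only [Finset.mem_Icc]; omega)]
  have htop : Nat.gcd (q - 1) (k + 1) * Nat.card {T : DTup F e (k + 1) // minPart T.1.1 = k + 1} ≤ (k + 1) * q := by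
    refine Nat.mul_le_mul (gcd_le_right' _ _ (by omega)) ((card_minPart_top e k (by omega)).trans ?_)
    exact (Nat.le_of_dvd (by omega) (Nat.gcd_dvd_right _ _)).trans (by omega)
  have hterm : ∀ s ∈ Finset.Icc 2 ((k + 1) / 2),
      Nat.gcd (q - 1) s * Nat.card {T : DTup F e (k + 1) // minPart T.1.1 = s} ≤
        s * (q * Nat.card (RestTup F k (k + 1 - s))) := fun s hs => by
    rw [Finset.mem_Icc] at hs
    exact Nat.mul_le_mul (gcd_le_right' _ _ (by omega)) (card_minPart_le e k s hs.1)
  have hsum := Finset.sum_le_sum hterm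
  obtain ⟨hs2, hs3⟩ := card_rest_small (F := F) k
  have hq2 := Nat.mul_le_mul_right q hq
  rcases (show k = 4 ∨ k = 5 ∨ 6 ≤ k by omega) with rfl | rfl | h6
  · norm_num only [show (4 + 1) / 2 = 2 from rfl, Finset.Icc_self, Finset.sum_singleton] at hsum htop ⊢
    have h9 : q * Nat.card (RestTup F 4 3) ≤ q * q := Nat.mul_le_mul_left q (by omega)
    nlinarith
  · norm_num only [show (5 + 1) / 2 = 3 from rfl, show Finset.Icc 2 3 = {2, 3} from rfl,
      Finset.sum_pair (show (2 : ℕ) ≠ 3 by decide)] at hsum htop ⊢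
    have h4 := card_rest_le' hq 5 4 le_rfl
    have h8 : q * Nat.card (RestTup F 5 3) ≤ q * q := Nat.mul_le_mul_left q (by omega)
    have h9 : q * Nat.card (RestTup F 5 4) ≤ q * q ^ 2 := Nat.mul_le_mul_left q (h4.trans (le_of_eq rfl))
    have h10 : 9 * q ^ 2 ≤ q ^ 4 := by nlinarith [Nat.mul_le_mul hq hq]
    have h11 : 3 * q ^ 3 ≤ q ^ 4 := by nlinarith [Nat.zero_le (q ^ 3)]
    have h12 : 3 * q ≤ q ^ 2 := by nlinarith
    nlinarith
  · have hterm2 : ∀ s ∈ Finset.Icc 2 ((k + 1) / 2),
        s * (q * Nat.card (RestTup F k (k + 1 - s))) ≤ s * q ^ (k - s) := fun s hs => by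
      rw [Finset.mem_Icc] at hs
      refine Nat.mul_le_mul_left _ ((Nat.mul_le_mul_left q (card_rest_le' hq k _ (by omega))).trans (le_of_eq ?_))
      rw [← pow_succ']; congr 1; omega
    have hgeo : 4 * ∑ s ∈ Finset.Icc 2 ((k + 1) / 2), s * q ^ (k - s) ≤ 15 * q ^ (k - 2) := by
      rw [← Finset.Ico_add_one_right_eq_Icc, Finset.sum_Ico_eq_sum_range]
      exact geometric_weight q hq _ 2 k (by omega)
    have hsum2 := hsum.trans (Finset.sum_le_sum hterm2)
    have hlin : ∀ t, 4 * ((t + 7) * q) ≤ 3 * q ^ (t + 4) := by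
      intro t
      induction t with
      | zero =>
        have h20 := Nat.mul_le_mul_right q (Nat.pow_le_pow_left hq 3)
        rw [show q ^ (0 + 4) = q ^ 3 * q by ring]
        omega
      | succ t iht =>
        rw [show t + 1 + 4 = (t + 4) + 1 by omega, pow_succ]
        have h13 := Nat.mul_le_mul_right q iht
        nlinarith [Nat.mul_le_mul_right q (show 3 ≤ q from hq)]
    have h14 := hlin (k - 6)
    rw [show k - 6 + 7 = k + 1 by omega, show k - 6 + 4 = k - 2 by omega] at h14
    have h15 : 3 * q ^ (k - 2) ≤ q ^ (k - 1) := by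
      rw [show k - 1 = k - 2 + 1 by omega, pow_succ']
      exact Nat.mul_le_mul_right _ hq
    omega

theorem tupWeight_general (e m : ℕ) (hm : 3 ≤ m) :
    tupWeight F e m ≤ Fintype.card F ^ (m - 1) + 3 * Fintype.card F ^ (m - 2) := by
  obtain ⟨k, rfl⟩ := Nat.exists_eq_add_of_le' (show 1 ≤ m by omega)
  have hq := Fintype.one_lt_card (α := F)
  rcases (show Fintype.card F = 2 ∨ 3 ≤ Fintype.card F by omega) with hq2 | hq3
  · refine (tupWeight_q_two e (k + 1) (by omega) hq2).trans ?_
    rw [hq2]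
    obtain ⟨j, rfl⟩ := Nat.exists_eq_add_of_le' (show 1 ≤ k by omega)
    simp only [Nat.add_sub_cancel, show j + 1 + 1 - 2 = j by omega, pow_succ]
    omega
  rw [tupWeight_succ, Nat.add_sub_cancel, show k + 1 - 2 = k - 1 by omega]
  have hA := card_minPart_one_sum (F := F) e k
  have h0 := card_rest_zero (F := F) k
  have h1 := card_rest_one (F := F) k
  obtain ⟨hs2, hs3⟩ := card_rest_small (F := F) k
  rcases (show k = 2 ∨ k = 3 ∨ 4 ≤ k by omega) with rfl | rfl | h4
  · simp only [Finset.sum_range_succ, Finset.sum_range_zero, zero_add, Nat.sub_zero, Nat.sub_self, pow_zero,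
      one_mul, pow_one, show (2 : ℕ) - 1 = 1 from rfl, h1, mul_zero, add_zero] at hA ⊢
    have hA' : Nat.card {T : DTup F e (2 + 1) // minPart T.1.1 = 1} ≤ Fintype.card F - 1 + Fintype.card F ^ 2 :=
      hA.trans (add_le_add hs2 (le_of_le_of_eq (Nat.mul_le_mul_left _ h0) (mul_one _)))
    have hB := card_minPart_top (F := F) e 2 (by norm_num)
    haveI : IsEmpty {T : DTup F e 3 // minPart T.1.1 = 2} := ⟨fun T => by
      rcases minPart_half T.1 with h | h <;> rw [T.2] at h <;> omega⟩
    rw [show Finset.Icc 2 (2 + 1) = {2, 3} from rfl, Finset.sum_pair (show (2 : ℕ) ≠ 3 by decide),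
      Nat.card_of_isEmpty (α := {T : DTup F e 3 // minPart T.1.1 = 2}), mul_zero, zero_add, Nat.gcd_comm]
    norm_num only at hB ⊢
    set g := Nat.gcd 3 (Fintype.card F - 1) with hgdef
    have hg : g ≤ 3 := Nat.le_of_dvd (by omega) (Nat.gcd_dvd_left _ _)
    have hgd : g ∣ 3 := Nat.gcd_dvd_left _ _
    have hgu : g ∣ Fintype.card F - 1 := Nat.gcd_dvd_right _ _
    have hBg := Nat.mul_le_mul_left g hB
    have hg2 : g ≠ 2 := fun h => by rw [h] at hgd; norm_num at hgd
    rcases (show g = 0 ∨ g = 1 ∨ g = 3 by omega) with h | h | h <;> rw [h] at hBg hgu ⊢ <;> omega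
  · simp only [Finset.sum_range_succ, Finset.sum_range_zero, zero_add, Nat.sub_zero, Nat.sub_self, pow_zero,
      one_mul, pow_one, show (3 : ℕ) - 2 = 1 from rfl, show (3 : ℕ) - 1 = 2 from rfl, h1, mul_zero,
      add_zero] at hA ⊢
    have hA' : Nat.card {T : DTup F e (3 + 1) // minPart T.1.1 = 1} ≤ (Fintype.card F - 1) +
        Fintype.card F * (Fintype.card F - 1) + Fintype.card F ^ 3 :=
      hA.trans (add_le_add (add_le_add hs3 (Nat.mul_le_mul_left _ hs2))
        (le_of_le_of_eq (Nat.mul_le_mul_left _ h0) (mul_one _)))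
    have hB := card_minPart_top (F := F) e 3 (by norm_num)
    have hC : Nat.card {T : DTup F e (3 + 1) // minPart T.1.1 = 2} ≤ Nat.gcd 2 (Fintype.card F - 1) * Fintype.card F :=
      card_minPart_two_four e
    haveI : IsEmpty {T : DTup F e 4 // minPart T.1.1 = 3} := ⟨fun T => by
      rcases minPart_half T.1 with h | h <;> rw [T.2] at h <;> omega⟩
    rw [show Finset.Icc 2 (3 + 1) = insert 2 {3, 4} from rfl, Finset.sum_insert (by decide),
      Finset.sum_pair (show (3 : ℕ) ≠ 4 by decide),
      Nat.card_of_isEmpty (α := {T : DTup F e 4 // minPart T.1.1 = 3}), mul_zero, zero_add, Nat.gcd_comm _ 2,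
      Nat.gcd_comm _ 4]
    norm_num only at hB ⊢
    rw [Nat.mul_sub, mul_one] at hA'
    set g := Nat.gcd 2 (Fintype.card F - 1) with hgdef
    set g' := Nat.gcd 4 (Fintype.card F - 1) with hgdef'
    have hg : g ≤ 2 := Nat.le_of_dvd (by omega) (Nat.gcd_dvd_left _ _)
    have hg' : g' ≤ 4 := Nat.le_of_dvd (by omega) (Nat.gcd_dvd_left _ _)
    have hg'' : g' ≤ Fintype.card F - 1 := Nat.le_of_dvd (by omega) (Nat.gcd_dvd_right _ _)
    have hBg := Nat.mul_le_mul hg' (hB.trans hg')
    have hBg' := Nat.mul_le_mul hg'' (hB.trans hg'')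
    have hCg := Nat.mul_le_mul hg (hC.trans (Nat.mul_le_mul_right _ hg))
    have hsq : 3 * Fintype.card F ≤ Fintype.card F ^ 2 := by rw [pow_two]; exact Nat.mul_le_mul_right _ hq3
    have h31 : Fintype.card F ^ 2 = Fintype.card F * Fintype.card F := pow_two _
    rcases (show Fintype.card F = 3 ∨ 4 ≤ Fintype.card F by omega) with h | h
    · have h32 : Fintype.card F * Fintype.card F = 9 := by rw [h]
      have h33 : (Fintype.card F - 1) * (Fintype.card F - 1) = 4 := by rw [h]
      omega
    · have h34 : 4 * Fintype.card F ≤ Fintype.card F * Fintype.card F := Nat.mul_le_mul_right _ h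
      omega
  · have hP := card_minPart_one_pow (F := F) e k
    have hR := two_tupWeight_rest hq3 e k h4
    set N := Nat.card {T : DTup F e (k + 1) // minPart T.1.1 = 1}
    obtain ⟨u, hu⟩ : ∃ u, Fintype.card F = u + 1 := ⟨Fintype.card F - 1, by omega⟩
    obtain ⟨j, rfl⟩ := Nat.exists_eq_add_of_le' (show 1 ≤ k by omega)
    rw [hu, Nat.add_sub_cancel] at hP hR ⊢
    rw [hu] at hq3
    have h16 : u * (2 * N) ≤ u * (2 * (u + 1) ^ (j + 1) + 3 * (u + 1) ^ j) := by
      have h17 : 2 * (u + 1) ^ (j + 1 + 1) ≤ u * (2 * (u + 1) ^ (j + 1) + 3 * (u + 1) ^ j) := by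
        rw [pow_succ, pow_succ]
        have h18 : 2 * ((u + 1) * (u + 1)) ≤ u * (2 * (u + 1) + 3) := by nlinarith
        nlinarith [Nat.mul_le_mul_left ((u + 1) ^ j) h18]
      nlinarith
    have h19 := Nat.le_of_mul_le_mul_left h16 (by omega)
    simp only [Nat.add_sub_cancel] at hR h19 ⊢
    omega

theorem tupWeight_fix (hq : 3 ≤ Fintype.card F) (e m : ℕ) (hm : 1 ≤ m) :
    tupWeight F e m ≤ (m + 2) * Fintype.card F ^ (m - 1) := by
  obtain ⟨k, rfl⟩ := Nat.exists_eq_add_of_le' hm
  rw [tupWeight_succ, Nat.add_sub_cancel, add_mul, add_comm ((k + 1) * _)]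
  refine add_le_add ?_ ?_
  · have hP := card_minPart_one_pow (F := F) e k
    rw [pow_succ] at hP
    have h1 : (Fintype.card F - 1) * Nat.card {T : DTup F e (k + 1) // minPart T.1.1 = 1} ≤
        (Fintype.card F - 1) * (2 * Fintype.card F ^ k) := by
      refine hP.trans ?_
      rw [mul_comm (Fintype.card F ^ k), ← mul_assoc]
      exact Nat.mul_le_mul_right _ (by omega)
    exact Nat.le_of_mul_le_mul_left h1 (by omega)
  · -- all tuples without parts of size one
    classical
    haveI := finite_dTup (F := F) e (k + 1)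
    haveI := finite_restTup (F := F) k (k + 1)
    calc ∑ s ∈ Finset.Icc 2 (k + 1),
          Nat.gcd (Fintype.card F - 1) s * Nat.card {T : DTup F e (k + 1) // minPart T.1.1 = s}
        ≤ ∑ s ∈ Finset.Icc 2 (k + 1), (k + 1) * Nat.card {T : DTup F e (k + 1) // minPart T.1.1 = s} := by
          refine Finset.sum_le_sum fun s hs => Nat.mul_le_mul_right _ ?_
          rw [Finset.mem_Icc] at hs
          exact (gcd_le_right' _ _ (by omega)).trans hs.2
      _ ≤ (k + 1) * Fintype.card F ^ k := by
          rw [← Finset.mul_sum]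
          refine Nat.mul_le_mul_left _ ?_
          letI := Fintype.ofFinite (DTup F e (k + 1))
          simp only [Nat.card_eq_fintype_card (α := {T : DTup F e (k + 1) // _}), Fintype.card_subtype]
          rw [← Finset.card_biUnion (fun a _ b _ hab => Finset.disjoint_filter.2 fun T _ h1 h2 => hab (h1 ▸ h2))]
          let U := (Finset.Icc 2 (k + 1)).biUnion fun s => Finset.univ.filter fun T : DTup F e (k + 1) => minPart T.1.1 = s
          have hU : ∀ T : U, T.1.1.1 0 = 1 := fun T => by
            obtain ⟨s, hs, hT⟩ := Finset.mem_biUnion.1 T.2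
            rw [Finset.mem_Icc] at hs
            refine (T.1.1.2.1 0).1.natDegree_eq_zero.1 (Nat.eq_zero_of_not_pos fun h => ?_)
            have := (minPart_spec (Nat.succ_pos k) T.1.1).2 0 h
            rw [(Finset.mem_filter.1 hT).2] at this
            simp at this
            omega
          let f : U → RestTup F k (k + 1) := fun T => ⟨T.1.1, hU T⟩
          have hf : Function.Injective f := fun T T' h => Subtype.ext (Subtype.ext (congrArg (fun x : RestTup F k (k + 1) => x.1) h))
          show U.card ≤ _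
          rw [← Fintype.card_coe, ← Nat.card_eq_fintype_card]
          exact (Nat.card_le_card_of_injective f hf).trans (card_rest_le k (k + 1))

end CfsgLib.SLBound
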