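import Cfsg.Agent.Lib.KnownSimple.SLClassBound.Types
import Cfsg.Agent.Lib.KnownSimple.SLClassBound.Weights

/-!
# Classes of the special linear group fixed by a scalar
-/

set_option autoImplicit false

namespace CfsgLib.SLBound

open Polynomial CfsgLib.GLClassBound CfsgLib.SSClasses

universe v

variable {F : Type v} [Field F]

/-- The product of the blocks of a given size. -/
noncomputable def partProd (S : Multiset (F[X] × ℕ)) (s : ℕ) : F[X] :=
  ((S.filter fun x => x.2 = s).map Prod.fst).prod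

@[to_additive]
theorem prod_filter_snd {α M : Type*} [CommMonoid M] (φ : α × ℕ → M) (m : ℕ) (S : Multiset (α × ℕ))
    (hS : ∀ x ∈ S, 0 < x.2 ∧ x.2 ≤ m) :
    ∏ j : Fin m, ((S.filter fun x => x.2 = (j : ℕ) + 1).map φ).prod = (S.map φ).prod := by
  induction S using Multiset.induction with
  | empty => simp
  | cons a S ih =>
    obtain ⟨h1, h2⟩ := hS a (Multiset.mem_cons_self _ _)
    simp only [Multiset.filter_cons, Multiset.map_add, Multiset.prod_add, Finset.prod_mul_distrib,
      Multiset.map_cons, Multiset.prod_cons, ih fun x hx => hS x (Multiset.mem_cons_of_mem hx)]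
    refine congrArg (· * (S.map φ).prod) ?_
    rw [Finset.prod_eq_single ⟨a.2 - 1, by omega⟩]
    · rw [if_pos (by simp only; omega), Multiset.map_singleton, Multiset.prod_singleton]
    · intro j _ hj
      rw [if_neg (fun h => hj (Fin.ext (by simp only; omega))), Multiset.map_zero, Multiset.prod_zero]
    · exact fun h => absurd (Finset.mem_univ _) h

theorem twist_mul {z : F} {P Q : F[X]} (hP : P ≠ 0) (hQ : Q ≠ 0) :
    twist z (P * Q) = twist z P * twist z Q := by
  rw [twist, twist, twist, natDegree_mul hP hQ, mul_comp, pow_add, mul_inv, map_mul]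
  ring

theorem twist_prod {z : F} (t : Multiset F[X]) (ht : ∀ P ∈ t, P.Monic) :
    twist z t.prod = (t.map (twist z)).prod := by
  induction t using Multiset.induction with
  | empty => simp [twist]
  | cons a t ih =>
    have ht' : ∀ P ∈ t, P.Monic := fun P hP => ht P (Multiset.mem_cons_of_mem hP)
    have h1 : t.prod.Monic := by simpa using monic_multiset_prod_of_monic t id ht'
    rw [Multiset.prod_cons, Multiset.map_cons, Multiset.prod_cons,
      twist_mul (ht a (Multiset.mem_cons_self _ _)).ne_zero h1.ne_zero, ih ht']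

theorem partProd_spec {n : ℕ} {S : Multiset (F[X] × ℕ)} (hS : GoodType n S) (s : ℕ) :
    (partProd S s).Monic ∧ (partProd S s).coeff 0 ≠ 0 ∧
      (partProd S s).natDegree = ((S.filter fun x => x.2 = s).map fun x => x.1.natDegree).sum ∧
      (-1 : F) ^ (partProd S s).natDegree * (partProd S s).coeff 0 =
        ((S.filter fun x => x.2 = s).map fun x => (-1 : F) ^ x.1.natDegree * x.1.coeff 0).prod := by
  have h : ∀ t : Multiset (F[X] × ℕ), (∀ x ∈ t, x.1.Monic ∧ x.1.coeff 0 ≠ 0) →
      (t.map Prod.fst).prod.Monic ∧ (t.map Prod.fst).prod.coeff 0 ≠ 0 ∧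
      (t.map Prod.fst).prod.natDegree = (t.map fun x => x.1.natDegree).sum ∧
      (-1 : F) ^ (t.map Prod.fst).prod.natDegree * (t.map Prod.fst).prod.coeff 0 =
        (t.map fun x => (-1 : F) ^ x.1.natDegree * x.1.coeff 0).prod := by
    intro t ht
    induction t using Multiset.induction with
    | empty => simp
    | cons a t ih =>
      obtain ⟨h1, h2⟩ := ht a (Multiset.mem_cons_self _ _)
      obtain ⟨h3, h4, h5, h6⟩ := ih fun x hx => ht x (Multiset.mem_cons_of_mem hx)
      simp only [Multiset.map_cons, Multiset.prod_cons, Multiset.sum_cons]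
      refine ⟨h1.mul h3, ?_, ?_, ?_⟩
      · rw [mul_coeff_zero]; exact mul_ne_zero h2 h4
      · rw [natDegree_mul h1.ne_zero h3.ne_zero, h5]
      · rw [natDegree_mul h1.ne_zero h3.ne_zero, mul_coeff_zero, ← h6, pow_add]
        ring
  exact h _ fun x hx => ⟨(hS.1 x (Multiset.mem_of_mem_filter hx)).1, (hS.1 x (Multiset.mem_of_mem_filter hx)).2.2.1⟩

theorem partProd_twist {n : ℕ} {S : Multiset (F[X] × ℕ)} (hS : GoodType n S) {z : F}
    (h : S.map (fun x => (twist z x.1, x.2)) = S) (s : ℕ) : twist z (partProd S s) = partProd S s := by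
  rw [partProd, twist_prod _ (fun P hP => by
    obtain ⟨x, hx, rfl⟩ := Multiset.mem_map.1 hP
    exact (hS.1 x (Multiset.mem_of_mem_filter hx)).1)]
  conv_rhs => rw [← h]
  rw [Multiset.filter_map, Multiset.map_map, Multiset.map_map]
  rfl

theorem exists_expand {e : ℕ} (he : 0 < e) {z : F} (hz : orderOf z = e) {H : F[X]} (hH : H.Monic)
    (h0 : H.coeff 0 ≠ 0) (h : twist z H = H) :
    ∃ f : F[X], expand F e f = H ∧ f.Monic ∧ f.coeff 0 = H.coeff 0 ∧ H.natDegree = f.natDegree * e := by
  have hzero : z ≠ 0 := fun h' => by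
    rw [h', orderOf_eq_zero_iff'.2 fun n hn => by simp [zero_pow hn.ne']] at hz
    omega
  have hc : ∀ i, H.coeff i ≠ 0 → z ^ i = z ^ H.natDegree := fun i hi => by
    have := congrArg (fun p : F[X] => p.coeff i) h
    simp only [twist, coeff_C_mul, comp_C_mul_X_coeff] at this
    field_simp at this
    exact this
  have hdvd : ∀ i, H.coeff i ≠ 0 → e ∣ i := fun i hi => by
    rw [← hz]
    exact orderOf_dvd_of_pow_eq_one ((hc i hi).trans ((hc 0 h0).symm.trans (pow_zero z)))
  have hexp : expand F e (contract e H) = H := by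
    ext i
    rw [coeff_expand he, coeff_contract he.ne']
    split_ifs with hi
    · rw [Nat.div_mul_cancel hi]
    · exact (not_not.1 fun hne => hi (hdvd i hne)).symm
  refine ⟨contract e H, hexp, (monic_expand_iff he).1 (by rw [hexp]; exact hH), ?_, ?_⟩
  · rw [coeff_contract he.ne', zero_mul]
  · conv_lhs => rw [← hexp]
    rw [natDegree_expand]

/-- The exponents of a scaled-invariant type. -/
theorem snd_le {n e m : ℕ} {S : Multiset (F[X] × ℕ)} (hS : GoodType n S) (hn : n = e * m) (he : 0 < e)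
    {z : F} (hz : orderOf z = e) (h : S.map (fun x => (twist z x.1, x.2)) = S) :
    ∀ x ∈ S, 0 < x.2 ∧ x.2 ≤ m := by
  intro x hx
  refine ⟨(hS.1 x hx).2.2.2, ?_⟩
  obtain ⟨hm, h0, hd, -⟩ := partProd_spec hS x.2
  obtain ⟨f, -, -, -, hf⟩ := exists_expand he hz hm h0 (partProd_twist hS h x.2)
  have hle : x.2 * (partProd S x.2).natDegree ≤ n := by
    rw [hd, ← hS.2, ← Multiset.sum_map_mul_left]
    conv_rhs => rw [← Multiset.filter_add_not (fun y => y.2 = x.2) S, Multiset.map_add, Multiset.sum_add]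
    refine le_trans (le_of_eq ?_) (Nat.le_add_right _ _)
    exact congrArg Multiset.sum (Multiset.map_congr rfl fun y hy => by rw [(Multiset.mem_filter.1 hy).2])
  have hpos : 0 < (partProd S x.2).natDegree := by
    rw [hd]
    refine lt_of_lt_of_le (hS.1 x hx).2.1.natDegree_pos ?_
    exact Multiset.le_sum_of_mem (Multiset.mem_map_of_mem (fun y : F[X] × ℕ => y.1.natDegree) ((Multiset.mem_filter (p := fun y : F[X] × ℕ => y.2 = x.2)).2 ⟨hx, rfl⟩))
  rw [hf] at hle hpos
  have h1 : e ≤ f.natDegree * e := Nat.le_mul_of_pos_left _ (Nat.pos_of_mul_pos_right hpos)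
  have h2 := (Nat.mul_le_mul_left x.2 h1).trans hle
  rw [hn, mul_comm x.2] at h2
  exact Nat.le_of_mul_le_mul_left h2 he

theorem exists_dTup {n e m : ℕ} {S : Multiset (F[X] × ℕ)} (hS : GoodType n S) (hn : n = e * m) (he : 0 < e)
    {z : F} (hz : orderOf z = e) (h : S.map (fun x => (twist z x.1, x.2)) = S)
    (hdet : (S.map fun x => ((-1 : F) ^ x.1.natDegree * x.1.coeff 0) ^ x.2).prod = 1) :
    ∃ T : DTup F e m, ∀ j : Fin m, expand F e (T.1.1 j) = partProd S ((j : ℕ) + 1) := by
  have hex : ∀ j : Fin m, ∃ f : F[X], expand F e f = partProd S ((j : ℕ) + 1) ∧ f.Monic ∧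
      f.coeff 0 = (partProd S ((j : ℕ) + 1)).coeff 0 ∧
      (partProd S ((j : ℕ) + 1)).natDegree = f.natDegree * e := fun j =>
    exists_expand he hz (partProd_spec hS _).1 (partProd_spec hS _).2.1 (partProd_twist hS h _)
  choose f hf hm h0 hd using hex
  have hw : ∑ j : Fin m, ((j : ℕ) + 1) * (f j).natDegree = m := by
    refine Nat.eq_of_mul_eq_mul_left he ?_
    rw [← hn, ← hS.2, ← sum_filter_snd _ m S (snd_le hS hn he hz h), Finset.mul_sum]
    refine Finset.sum_congr rfl fun j _ => ?_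
    have h3 : ((S.filter fun x => x.2 = (j : ℕ) + 1).map fun x => x.2 * x.1.natDegree).sum =
        ((j : ℕ) + 1) * (partProd S ((j : ℕ) + 1)).natDegree := by
      rw [(partProd_spec hS _).2.2.1, ← Multiset.sum_map_mul_left]
      exact congrArg Multiset.sum (Multiset.map_congr rfl fun y hy => by rw [(Multiset.mem_filter.1 hy).2])
    rw [h3, hd]
    ring
  refine ⟨⟨⟨f, fun j => ⟨hm j, by rw [h0]; exact (partProd_spec hS _).2.1⟩, hw⟩, ?_⟩, hf⟩
  refine Eq.trans ?_ hdet
  rw [tupDet, ← prod_filter_snd _ m S (snd_le hS hn he hz h)]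
  refine Finset.prod_congr rfl fun j _ => ?_
  show ((-1) ^ (e * (f j).natDegree) * (f j).coeff 0) ^ ((j : ℕ) + 1) = _
  rw [h0, mul_comm e, ← hd, (partProd_spec hS _).2.2.2, ← Multiset.prod_map_pow]
  exact congrArg Multiset.prod (Multiset.map_congr rfl fun y hy => by rw [(Multiset.mem_filter.1 hy).2])

theorem eq_of_partProd {n m : ℕ} {S S' : Multiset (F[X] × ℕ)} (hS : GoodType n S) (hS' : GoodType n S')
    (hm : ∀ x ∈ S, 0 < x.2 ∧ x.2 ≤ m) (hm' : ∀ x ∈ S', 0 < x.2 ∧ x.2 ≤ m)
    (h : ∀ j : Fin m, partProd S ((j : ℕ) + 1) = partProd S' ((j : ℕ) + 1)) : S = S' := by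
  have key : ∀ (U : Multiset (F[X] × ℕ)), (∀ x ∈ U, 0 < x.2 ∧ x.2 ≤ m) →
      ∑ j : Fin m, ((U.filter fun x => x.2 = (j : ℕ) + 1).map fun x => ({x} : Multiset (F[X] × ℕ))).sum = U :=
    fun U hU => by rw [sum_filter_snd _ m U hU, Multiset.sum_map_singleton]
  rw [← key S hm, ← key S' hm']
  refine Finset.sum_congr rfl fun j _ => ?_
  have hp := eq_of_prod_eq ?_ ?_ (h j)
  rotate_left
  · intro a ha
    obtain ⟨x, hx, rfl⟩ := Multiset.mem_map.1 ha
    exact ⟨(hS.1 x (Multiset.mem_of_mem_filter hx)).1, (hS.1 x (Multiset.mem_of_mem_filter hx)).2.1⟩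
  · intro a ha
    obtain ⟨x, hx, rfl⟩ := Multiset.mem_map.1 ha
    exact ⟨(hS'.1 x (Multiset.mem_of_mem_filter hx)).1, (hS'.1 x (Multiset.mem_of_mem_filter hx)).2.1⟩
  rw [Multiset.sum_map_singleton, Multiset.sum_map_singleton]
  have hpair : ∀ U : Multiset (F[X] × ℕ), (U.filter fun x => x.2 = (j : ℕ) + 1) =
      ((U.filter fun x => x.2 = (j : ℕ) + 1).map Prod.fst).map fun P => (P, (j : ℕ) + 1) := fun U => by
    rw [Multiset.map_map]
    exact ((Multiset.map_congr rfl fun x hx => by
      rw [Function.comp_apply, ← (Multiset.mem_filter.1 hx).2]).trans (Multiset.map_id' _)).symm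
  rw [hpair S, hpair S', hp]

variable {n : ℕ}

/-- The class of `g` is fixed by the scalar `z`. -/
def FixedBy' (z : F) (g : Matrix.SpecialLinearGroup (Fin n) F) : Prop :=
  ∃ g' : GL (Fin n) F, (g' : Matrix (Fin n) (Fin n) F) = z • (g : Matrix (Fin n) (Fin n) F) ∧
    IsConj g' (Matrix.SpecialLinearGroup.toGL g)

theorem card_fixed_le [Fintype F] (z : F) (e m : ℕ) (he : 0 < e) (hm : 0 < m) (hn : n = e * m)
    (hz : orderOf z = e) :
    Nat.card {c : ConjClasses (Matrix.SpecialLinearGroup (Fin n) F) //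
      ∃ g, ConjClasses.mk g = c ∧ FixedBy' z g} ≤ tupWeight F e m := by
  classical
  let X' := {c : ConjClasses (Matrix.SpecialLinearGroup (Fin n) F) // ∃ g, ConjClasses.mk g = c ∧ FixedBy' z g}
  let g : X' → Matrix.SpecialLinearGroup (Fin n) F := fun c => c.2.choose
  let S : X' → Multiset (F[X] × ℕ) := fun c => ptype (Matrix.SpecialLinearGroup.toGL (g c))
  have hzero : z ≠ 0 := fun h' => by
    rw [h', orderOf_eq_zero_iff'.2 fun n hn => by simp [zero_pow hn.ne']] at hz
    omega
  have hord : orderOf z⁻¹ = e := (orderOf_eq_orderOf_iff.2 fun k => by simp [inv_pow]).trans hz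
  have hinv : ∀ c, (S c).map (fun x => (twist z⁻¹ x.1, x.2)) = S c := fun c => by
    obtain ⟨g', hg', hconj⟩ := c.2.choose_spec.2
    exact (ptype_scale (g := Matrix.SpecialLinearGroup.toGL (g c)) hzero hg').symm.trans (ptype_eq_of_isConj hconj)
  have hT : ∀ c, ∃ T : DTup F e m, ∀ j : Fin m, expand F e (T.1.1 j) = partProd (S c) ((j : ℕ) + 1) := fun c => by
    refine exists_dTup (ptype_good _) hn he hord (hinv c) ?_
    rw [← det_toLin_eq (ptype_spec _)]
    exact (g c).2
  choose T hT using hT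
  have hS : ∀ c c', T c = T c' → S c = S c' := fun c c' h => by
    refine eq_of_partProd (ptype_good _) (ptype_good _) (snd_le (ptype_good _) hn he hord (hinv c))
      (snd_le (ptype_good _) hn he hord (hinv c')) fun j => ?_
    rw [← hT c j, ← hT c' j, h]
  have hrep : ∀ t : DTup F e m, ∃ r : Matrix.SpecialLinearGroup (Fin n) F,
      ∀ c, T c = t → ∃ c₀, T c₀ = t ∧ r = g c₀ := fun t => by
    by_cases h : ∃ c, T c = t
    · obtain ⟨c₀, hc₀⟩ := h
      exact ⟨g c₀, fun c _ => ⟨c₀, hc₀, rfl⟩⟩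
    · exact ⟨1, fun c hc => absurd ⟨c, hc⟩ h⟩
  choose r hr using hrep
  have hP : ∀ c, ∃ P : GL (Fin n) F, P * Matrix.SpecialLinearGroup.toGL (r (T c)) * P⁻¹ =
      Matrix.SpecialLinearGroup.toGL (g c) := fun c => by
    obtain ⟨c₀, h0, hr0⟩ := hr (T c) c rfl
    exact isConj_iff.1 (isConj_of_ptype_eq (by rw [hr0]; exact hS c₀ c h0))
  choose P hP using hP
  haveI : ∀ t : DTup F e m, Finite (Fˣ ⧸ (powMonoidHom (minPart t.1.1) : Fˣ →* Fˣ).range) := fun _ => inferInstance
  haveI := finite_dTup (F := F) e m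
  let φ : X' → Σ t : DTup F e m, Fˣ ⧸ (powMonoidHom (minPart t.1.1) : Fˣ →* Fˣ).range := fun c =>
    ⟨T c, QuotientGroup.mk (Matrix.GeneralLinearGroup.det (P c))⟩
  have hφ : Function.Injective φ := by
    intro c c' h
    obtain ⟨hTT, hcos⟩ := Sigma.mk.inj_iff.1 h
    have hcos' : (Matrix.GeneralLinearGroup.det (P c))⁻¹ * Matrix.GeneralLinearGroup.det (P c') ∈
        (powMonoidHom (minPart (T c).1.1) : Fˣ →* Fˣ).range := by
      revert hcos
      generalize hd : Matrix.GeneralLinearGroup.det (P c) = d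
      generalize hd' : Matrix.GeneralLinearGroup.det (P c') = d'
      generalize T c' = t at hTT
      subst hTT
      intro hcos
      exact QuotientGroup.eq.1 (eq_of_heq hcos)
    obtain ⟨w, hw⟩ := hcos'
    obtain ⟨c₀, h0, hr0⟩ := hr (T c) c rfl
    obtain ⟨⟨j, hj, hjd⟩, -⟩ := minPart_spec hm (T c).1
    have hx : ∃ x ∈ ptype (Matrix.SpecialLinearGroup.toGL (r (T c))), x.2 = minPart (T c).1.1 := by
      rw [hr0]
      by_contra hne
      have hempty : partProd (S c₀) ((j : ℕ) + 1) = 1 := by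
        have hf : (S c₀).filter (fun x => x.2 = (j : ℕ) + 1) = 0 :=
          Multiset.filter_eq_nil.2 fun x hx hx' => hne ⟨x, hx, hx'.trans hj⟩
        rw [partProd, hf, Multiset.map_zero, Multiset.prod_zero]
      rw [← hT c₀ j, h0] at hempty
      have := congrArg natDegree hempty
      rw [natDegree_expand, natDegree_one] at this
      rcases Nat.mul_eq_zero.1 this with h1 | h1 <;> omega
    obtain ⟨x, hx, hx2⟩ := hx
    obtain ⟨Q, hQ, hQd⟩ := exists_commute_det_pow _ hx w
    have hQd' : Matrix.GeneralLinearGroup.det Q = w ^ minPart (T c).1.1 := Units.ext (by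
      rw [Matrix.GeneralLinearGroup.val_det_apply, hQd, hx2, Units.val_pow_eq_pow_val])
    have hD : Matrix.GeneralLinearGroup.det (P c') = Matrix.GeneralLinearGroup.det (P c * Q) := by
      rw [map_mul, hQd', show w ^ minPart (T c).1.1 = _ from hw, mul_inv_cancel_left]
    have hconjGL : P c' * (P c * Q)⁻¹ * Matrix.SpecialLinearGroup.toGL (g c) * (P c' * (P c * Q)⁻¹)⁻¹ =
        Matrix.SpecialLinearGroup.toGL (g c') := by
      rw [← hP c, ← hP c', ← hTT]
      have hQ' : Q⁻¹ * Matrix.SpecialLinearGroup.toGL (r (T c)) * Q = Matrix.SpecialLinearGroup.toGL (r (T c)) := by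
        rw [mul_assoc, ← hQ, inv_mul_cancel_left]
      calc _ = P c' * (Q⁻¹ * Matrix.SpecialLinearGroup.toGL (r (T c)) * Q) * (P c')⁻¹ := by group
        _ = _ := by rw [hQ']
    set R := P c' * (P c * Q)⁻¹ with hR
    have hRdet : (R : Matrix (Fin n) (Fin n) F).det = 1 := by
      have h1 : Matrix.GeneralLinearGroup.det R = 1 := by rw [hR, map_mul, map_inv, hD, mul_inv_cancel]
      exact (Matrix.GeneralLinearGroup.val_det_apply R).symm.trans (congrArg Units.val h1)
    refine Subtype.ext ?_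
    rw [← c.2.choose_spec.1, ← c'.2.choose_spec.1, ConjClasses.mk_eq_mk_iff_isConj]
    let R' : Matrix.SpecialLinearGroup (Fin n) F := ⟨_, hRdet⟩
    refine isConj_iff.2 ⟨R', mul_inv_eq_iff_eq_mul.2 ?_⟩
    exact Subtype.ext (congrArg Units.val (mul_inv_eq_iff_eq_mul.1 hconjGL))
  refine (Nat.card_le_card_of_injective φ hφ).trans (le_of_eq ?_)
  letI := Fintype.ofFinite (DTup F e m)
  rw [Nat.card_sigma, ← sum_gcd_minPart e m hm]
  refine Finset.sum_congr rfl fun t _ => ?_
  rw [← Subgroup.index_eq_card, IsCyclic.index_powMonoidHom_range, Nat.card_units,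
    Nat.card_eq_fintype_card (α := F)]

end CfsgLib.SLBound
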