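import Cfsg.Agent.Lib.KnownSimple.SLClassBound.Classes
import Cfsg.Agent.Lib.KnownSimple.SemisimpleClasses.Classes
import Cfsg.Agent.Lib.Classical.GLOrder

/-!
# Class numbers of the special and projective special linear groups
-/

set_option autoImplicit false

namespace CfsgLib.SLBound

open Polynomial CfsgLib.GLClassBound CfsgLib.SSClasses

universe v

variable {F : Type v} [Field F] [Fintype F] {n : ℕ}

theorem card_classes_sl_le (hn : 0 < n) :
    Nat.card (ConjClasses (Matrix.SpecialLinearGroup (Fin n) F)) ≤ tupWeight F 1 n := by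
  refine le_trans (le_of_eq ?_) (card_fixed_le (1 : F) 1 n one_pos hn (one_mul n).symm orderOf_one)
  refine Nat.card_congr (Equiv.subtypeUnivEquiv fun c => ?_).symm
  obtain ⟨g, rfl⟩ := ConjClasses.mk_surjective c
  exact ⟨g, rfl, Matrix.SpecialLinearGroup.toGL g, (one_smul F _).symm, IsConj.refl _⟩

theorem lt_card_classes_sl (hn : 2 ≤ n) :
    Fintype.card F ^ (n - 1) < Nat.card (ConjClasses (Matrix.SpecialLinearGroup (Fin n) F)) := by
  obtain ⟨k, rfl⟩ := Nat.exists_eq_add_of_le' (show 1 ≤ n by omega)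
  obtain ⟨p, hc⟩ := CharP.exists F
  haveI : Fact p.Prime := ⟨CharP.char_is_prime F p⟩
  rw [Nat.add_sub_cancel, ← sl_card_classes (F := F) (k := k) p]
  have hij : (⟨0, by omega⟩ : Fin (k + 1)) ≠ ⟨1, by omega⟩ := fun h => by simp [Fin.ext_iff] at h
  let u : Matrix.SpecialLinearGroup (Fin (k + 1)) F :=
    ⟨Matrix.transvection ⟨0, by omega⟩ ⟨1, by omega⟩ 1, Matrix.det_transvection_of_ne _ _ hij 1⟩
  have hne : u ≠ 1 := fun h => by
    have h1 := congrArg (fun a : Matrix.SpecialLinearGroup (Fin (k + 1)) F =>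
      (a : Matrix (Fin (k + 1)) (Fin (k + 1)) F) ⟨0, by omega⟩ ⟨1, by omega⟩) h
    simp [u, Matrix.transvection] at h1
  have hp : u ^ p = 1 := by
    refine Subtype.ext ?_
    rw [Matrix.SpecialLinearGroup.coe_pow, Matrix.SpecialLinearGroup.coe_one]
    show (Matrix.transvection (⟨0, by omega⟩ : Fin (k + 1)) ⟨1, by omega⟩ (1 : F)) ^ p = 1
    rw [Matrix.transvection, add_pow_char_of_commute p (Commute.one_left _), one_pow,
      show (Matrix.single (⟨0, by omega⟩ : Fin (k + 1)) (⟨1, by omega⟩ : Fin (k + 1)) (1 : F)) ^ p = 0 from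
        pow_eq_zero_of_le (Fact.out : p.Prime).two_le (by rw [pow_two, Matrix.single_mul_single_of_ne _ _ _ _ hij.symm]), add_zero]
  refine Finite.card_subtype_lt (x := ConjClasses.mk u) ?_
  rintro ⟨g, hg, hcop⟩
  obtain ⟨c, hc'⟩ := isConj_iff.1 (ConjClasses.mk_eq_mk_iff_isConj.1 hg)
  have hord : orderOf u = p := by
    rcases (Nat.dvd_prime Fact.out).1 (orderOf_dvd_of_pow_eq_one hp) with h | h
    · exact absurd (orderOf_eq_one_iff.1 h) hne
    · exact h
  have : orderOf g = p := by
    rw [← hord, ← hc', show c * g * c⁻¹ = MulAut.conj c g from rfl, MulEquiv.orderOf_eq]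
  rw [this, Nat.coprime_self] at hcop
  exact (Fact.out : p.Prime).one_lt.ne' hcop

theorem fix_scalar_bound (z : F) (hn : 2 ≤ n) (hz : z ≠ 1) (hzn : z ^ n = 1) :
    3 ≤ Fintype.card F ∧
    (n ≤ 3 → Nat.card {c : ConjClasses (Matrix.SpecialLinearGroup (Fin n) F) //
      ∃ g, ConjClasses.mk g = c ∧ FixedBy' z g} ≤ 1) ∧
    (4 ≤ n → (Fintype.card F - 2) * Nat.card {c : ConjClasses (Matrix.SpecialLinearGroup (Fin n) F) //
      ∃ g, ConjClasses.mk g = c ∧ FixedBy' z g} ≤ 2 * Fintype.card F ^ (n - 2)) := by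
  have h0 : z ≠ 0 := fun h => by simp [h, zero_pow (show n ≠ 0 by omega)] at hzn
  have hq : 3 ≤ Fintype.card F := by
    classical
    have := Finset.card_le_univ ({0, 1, z} : Finset F)
    simpa [Finset.card_insert_of_notMem, Ne.symm h0, Ne.symm hz] using this
  obtain ⟨m, hm⟩ := orderOf_dvd_of_pow_eq_one hzn
  have he0 : orderOf z ≠ 0 := fun h => by rw [h, zero_mul] at hm; omega
  have he : 2 ≤ orderOf z := by
    have : orderOf z ≠ 1 := fun h => hz (orderOf_eq_one_iff.1 h)
    omega
  have hmpos : 0 < m := Nat.pos_of_ne_zero fun h => by rw [h, mul_zero] at hm; omega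
  have h2m : 2 * m ≤ n := by rw [hm]; exact Nat.mul_le_mul_right m he
  have hb := card_fixed_le (n := n) z (orderOf z) m (by omega) hmpos hm rfl
  refine ⟨hq, fun h3 => hb.trans ?_, fun h4 => ?_⟩
  · rw [show m = 1 by omega]
    exact tupWeight_one _
  · refine (Nat.mul_le_mul_left _ hb).trans ?_
    set q := Fintype.card F
    rcases (show n = 4 ∨ 5 ≤ n by omega) with rfl | h5
    · have hw : tupWeight F (orderOf z) m ≤ q + 4 := by
        rcases (show m = 1 ∨ m = 2 by omega) with rfl | rfl
        · exact (tupWeight_one _).trans (by omega)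
        · exact (tupWeight_two _).1
      refine (Nat.mul_le_mul_left _ hw).trans ?_
      obtain ⟨v, hv⟩ : ∃ v, q = v + 2 := ⟨q - 2, by omega⟩
      rw [hv, Nat.add_sub_cancel, show 4 - 2 = 2 from rfl]
      nlinarith
    · refine (Nat.mul_le_mul (Nat.sub_le q 2) (tupWeight_fix hq _ m hmpos)).trans ?_
      have hlin : ∀ k, m + 2 ≤ 2 * q ^ (k + 1) ∨ k + 5 < m + 2 := by
        intro k
        induction k with
        | zero => rw [zero_add, pow_one]; omega
        | succ k ih =>
          rcases ih with h | h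
          · exact Or.inl (h.trans (Nat.mul_le_mul_left 2 (Nat.pow_le_pow_right (by omega) (Nat.le_succ _))))
          · rcases Nat.lt_or_ge (k + 1 + 5) (m + 2) with h' | h'
            · exact Or.inr h'
            · left
              have hg : ∀ j, j + 6 ≤ 2 * q ^ (j + 2) := by
                intro j
                induction j with
                | zero =>
                  have := Nat.mul_le_mul hq hq
                  rw [show q ^ (0 + 2) = q * q by ring]
                  omega
                | succ j ihj =>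
                  rw [pow_succ q (j + 2)]
                  nlinarith
              have := hg k
              rw [show k + 1 + 1 = k + 2 by omega]
              omega
      have hk := (hlin (n - 2 - m - 1)).resolve_right (by omega)
      rw [show n - 2 - m - 1 + 1 = n - 2 - m by omega] at hk
      calc q * ((m + 2) * q ^ (m - 1)) = (m + 2) * q ^ m := by
            rw [mul_left_comm, ← pow_succ', Nat.sub_add_cancel hmpos]
        _ ≤ 2 * q ^ (n - 2 - m) * q ^ m := Nat.mul_le_mul_right _ hk
        _ = 2 * q ^ (n - 2) := by rw [mul_assoc, ← pow_add]; congr 2; omega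

/-- Multiplication by central elements permutes the classes. -/
noncomputable def centerSMulClasses (G : Type*) [Group G] : MulAction (Subgroup.center G) (ConjClasses G) where
  smul z := Quotient.map (fun g => (z : G) * g) fun a b h => by
    obtain ⟨c, hc⟩ := isConj_iff.1 h
    refine isConj_iff.2 ⟨c, ?_⟩
    rw [← hc, ← mul_assoc c, Subgroup.mem_center_iff.1 z.2 c]
    group
  one_smul c := by
    obtain ⟨g, rfl⟩ := ConjClasses.mk_surjective c
    exact congrArg ConjClasses.mk (one_mul g)
  mul_smul z w c := by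
    obtain ⟨g, rfl⟩ := ConjClasses.mk_surjective c
    exact congrArg ConjClasses.mk (mul_assoc _ _ g)

theorem card_classes_quotient_center (G : Type*) [Group G] [Finite G] :
    letI := centerSMulClasses G
    ∃ (_ : Fintype (Subgroup.center G)) (_ : ∀ z : Subgroup.center G, Fintype (MulAction.fixedBy (ConjClasses G) z)),
      (∑ z : Subgroup.center G, Fintype.card (MulAction.fixedBy (ConjClasses G) z)) =
        Nat.card (ConjClasses (G ⧸ Subgroup.center G)) * Nat.card (Subgroup.center G) := by
  classical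
  letI := centerSMulClasses G
  letI := Fintype.ofFinite (Subgroup.center G)
  letI : ∀ z : Subgroup.center G, Fintype (MulAction.fixedBy (ConjClasses G) z) := fun z => Fintype.ofFinite _
  refine ⟨inferInstance, inferInstance, ?_⟩
  letI := Fintype.ofFinite (Quotient (MulAction.orbitRel (Subgroup.center G) (ConjClasses G)))
  rw [MulAction.sum_card_fixedBy_eq_card_orbits_mul_card_group, ← Nat.card_eq_fintype_card,
    ← Nat.card_eq_fintype_card (α := Subgroup.center G)]
  refine congrArg (· * Nat.card (Subgroup.center G)) ?_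
  let π := ConjClasses.map (QuotientGroup.mk' (Subgroup.center G))
  have hπz : ∀ (z : Subgroup.center G) (c : ConjClasses G), π (z • c) = π c := by
    intro z c
    obtain ⟨g, rfl⟩ := ConjClasses.mk_surjective c
    show ConjClasses.mk (QuotientGroup.mk' (Subgroup.center G) ((z : G) * g)) = ConjClasses.mk _
    rw [map_mul, (QuotientGroup.eq_one_iff (z : G)).2 z.2 |> fun h => (show QuotientGroup.mk' (Subgroup.center G) (z : G) = 1 from h), one_mul]
  refine Nat.card_congr (Equiv.ofBijective (Quotient.lift π fun a b h => ?_) ⟨?_, ?_⟩)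
  · obtain ⟨z, rfl⟩ := h
    exact hπz z b
  · intro x y
    induction x using Quotient.inductionOn with
    | _ a =>
    induction y using Quotient.inductionOn with
    | _ b =>
    obtain ⟨g, rfl⟩ := ConjClasses.mk_surjective a
    obtain ⟨h, rfl⟩ := ConjClasses.mk_surjective b
    intro hab
    replace hab : ConjClasses.mk (QuotientGroup.mk' (Subgroup.center G) g) = ConjClasses.mk (QuotientGroup.mk' _ h) := hab
    obtain ⟨x, hx⟩ := isConj_iff.1 (ConjClasses.mk_eq_mk_iff_isConj.1 hab)
    obtain ⟨x, rfl⟩ := QuotientGroup.mk'_surjective _ x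
    rw [← map_inv, ← map_mul, ← map_mul, QuotientGroup.mk'_eq_mk'] at hx
    obtain ⟨w, hw, hw'⟩ := hx
    refine Quotient.sound ?_
    refine ⟨⟨w, hw⟩⁻¹, ?_⟩
    show ConjClasses.mk (w⁻¹ * h) = ConjClasses.mk g
    rw [ConjClasses.mk_eq_mk_iff_isConj]
    refine (isConj_iff.2 ⟨x, ?_⟩).symm
    rw [← hw', ← mul_assoc w⁻¹, ← Subgroup.mem_center_iff.1 (inv_mem hw) (x * g * x⁻¹), inv_mul_cancel_right]
  · intro c
    obtain ⟨x, rfl⟩ := ConjClasses.mk_surjective c
    obtain ⟨g, rfl⟩ := QuotientGroup.mk'_surjective _ x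
    exact ⟨Quotient.mk _ (ConjClasses.mk g), rfl⟩

theorem card_classes_psl_bound (hn : 2 ≤ n) :
    Fintype.card F ^ (n - 1) ≤ Nat.gcd n (Fintype.card F - 1) *
        Nat.card (ConjClasses (Matrix.ProjectiveSpecialLinearGroup (Fin n) F)) ∧
      Nat.gcd n (Fintype.card F - 1) *
        Nat.card (ConjClasses (Matrix.ProjectiveSpecialLinearGroup (Fin n) F)) ≤
        Fintype.card F ^ (n - 1) + 5 * Fintype.card F ^ (n - 2) := by
  classical
  haveI : Nonempty (Fin n) := ⟨⟨0, by omega⟩⟩
  letI := centerSMulClasses (Matrix.SpecialLinearGroup (Fin n) F)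
  obtain ⟨_, _, hsum⟩ := card_classes_quotient_center (Matrix.SpecialLinearGroup (Fin n) F)
  have hd : Nat.card (Subgroup.center (Matrix.SpecialLinearGroup (Fin n) F)) = Nat.gcd n (Fintype.card F - 1) := by
    rw [CfsgLib.Classical.card_center_SL, Fintype.card_fin, Nat.card_units, Nat.card_eq_fintype_card (α := F)]
  have hsum' : Nat.gcd n (Fintype.card F - 1) *
      Nat.card (ConjClasses (Matrix.ProjectiveSpecialLinearGroup (Fin n) F)) =
      ∑ z : Subgroup.center (Matrix.SpecialLinearGroup (Fin n) F),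
        Fintype.card (MulAction.fixedBy (ConjClasses (Matrix.SpecialLinearGroup (Fin n) F)) z) := by
    rw [hsum, hd, mul_comm]
  rw [hsum', ← Finset.add_sum_erase _ _ (Finset.mem_univ (1 : Subgroup.center (Matrix.SpecialLinearGroup (Fin n) F)))]
  have h1 : Fintype.card (MulAction.fixedBy (ConjClasses (Matrix.SpecialLinearGroup (Fin n) F))
      (1 : Subgroup.center (Matrix.SpecialLinearGroup (Fin n) F))) =
      Nat.card (ConjClasses (Matrix.SpecialLinearGroup (Fin n) F)) := by
    rw [← Nat.card_eq_fintype_card]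
    exact Nat.card_congr (Equiv.subtypeUnivEquiv fun c => one_smul _ c)
  rw [h1]
  refine ⟨(lt_card_classes_sl hn).le.trans (Nat.le_add_right _ _), ?_⟩
  set d := Nat.gcd n (Fintype.card F - 1)
  have hq := Fintype.one_lt_card (α := F)
  have hdn : d ≤ n := Nat.le_of_dvd (by omega) (Nat.gcd_dvd_left _ _)
  have hdq : d ≤ Fintype.card F - 1 := Nat.le_of_dvd (by omega) (Nat.gcd_dvd_right _ _)
  have hcard : (Finset.univ.erase (1 : Subgroup.center (Matrix.SpecialLinearGroup (Fin n) F))).card = d - 1 := by
    rw [Finset.card_erase_of_mem (Finset.mem_univ _), Finset.card_univ, ← Nat.card_eq_fintype_card, hd]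
  have hfix : ∀ z ∈ Finset.univ.erase (1 : Subgroup.center (Matrix.SpecialLinearGroup (Fin n) F)),
      3 ≤ Fintype.card F ∧
      (n ≤ 3 → Fintype.card (MulAction.fixedBy (ConjClasses (Matrix.SpecialLinearGroup (Fin n) F)) z) ≤ 1) ∧
      (4 ≤ n → (Fintype.card F - 2) *
        Fintype.card (MulAction.fixedBy (ConjClasses (Matrix.SpecialLinearGroup (Fin n) F)) z) ≤
          2 * Fintype.card F ^ (n - 2)) := by
    intro z hz
    obtain ⟨r, hr, hrz⟩ := Matrix.SpecialLinearGroup.mem_center_iff.1 z.2
    rw [Fintype.card_fin] at hr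
    have hr1 : r ≠ 1 := fun h => (Finset.ne_of_mem_erase hz) (Subtype.ext (Subtype.ext (by
      rw [← hrz, h, map_one]; rfl)))
    obtain ⟨a1, a2, a3⟩ := fix_scalar_bound r hn hr1 hr
    have hle : Fintype.card (MulAction.fixedBy (ConjClasses (Matrix.SpecialLinearGroup (Fin n) F)) z) ≤
        Nat.card {c : ConjClasses (Matrix.SpecialLinearGroup (Fin n) F) // ∃ g, ConjClasses.mk g = c ∧ FixedBy' r g} := by
      rw [← Nat.card_eq_fintype_card]
      refine Finite.card_le_of_embedding (Subtype.impEmbedding _ _ fun c hc => ?_)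
      obtain ⟨g, rfl⟩ := ConjClasses.mk_surjective c
      refine ⟨g, rfl, Matrix.SpecialLinearGroup.toGL ((z : Matrix.SpecialLinearGroup (Fin n) F) * g), ?_, ?_⟩
      · show ((z : Matrix.SpecialLinearGroup (Fin n) F) : Matrix (Fin n) (Fin n) F) * g = r • (g : Matrix (Fin n) (Fin n) F)
        rw [← hrz, Matrix.scalar_apply, ← Matrix.smul_eq_diagonal_mul]
      · exact (Matrix.SpecialLinearGroup.toGL).map_isConj (ConjClasses.mk_eq_mk_iff_isConj.1 hc)
    exact ⟨a1, fun h => hle.trans (a2 h), fun h => (Nat.mul_le_mul_left _ hle).trans (a3 h)⟩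
  have hk := card_classes_sl_le (F := F) (n := n) (by omega)
  rcases (show n = 2 ∨ n = 3 ∨ 4 ≤ n by omega) with rfl | rfl | h4
  · have := Finset.sum_le_card_nsmul _ _ 1 fun z hz => (hfix z hz).2.1 (by norm_num)
    rw [hcard, smul_eq_mul, mul_one] at this
    have := (tupWeight_two (F := F) 1).1
    simp only [show 2 - 1 = 1 from rfl, pow_one, Nat.sub_self, pow_zero] at *
    omega
  · have := Finset.sum_le_card_nsmul _ _ 1 fun z hz => (hfix z hz).2.1 le_rfl
    rw [hcard, smul_eq_mul, mul_one] at this
    have := tupWeight_general (F := F) 1 3 le_rfl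
    simp only [show 3 - 1 = 2 from rfl, show 3 - 2 = 1 from rfl, pow_one] at *
    omega
  · have := tupWeight_general (F := F) 1 n (by omega)
    rcases (show Fintype.card F = 2 ∨ 3 ≤ Fintype.card F by omega) with h2 | h3
    · have h0 : Finset.univ.erase (1 : Subgroup.center (Matrix.SpecialLinearGroup (Fin n) F)) = ∅ :=
        Finset.card_eq_zero.1 (by rw [hcard]; omega)
      rw [h0, Finset.sum_empty]
      omega
    · have hS := Finset.sum_le_card_nsmul _ _ (2 * Fintype.card F ^ (n - 2)) fun z hz => (hfix z hz).2.2 h4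
      rw [← Finset.mul_sum, hcard, smul_eq_mul] at hS
      have hS2 := Nat.le_of_mul_le_mul_left
        (hS.trans (Nat.mul_le_mul_right _ (show d - 1 ≤ Fintype.card F - 2 by omega))) (by omega)
      omega

end CfsgLib.SLBound
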