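import Cfsg.Agent.Lib.KnownSimple.GLClassBound.Basic

/-!
# Counting tuples of polynomials with a determinant condition
-/

set_option autoImplicit false

namespace CfsgLib.SLBound

open Polynomial CfsgLib.GLClassBound

universe v

variable {F : Type v} [Field F] {k : ℕ}

/-- The determinant read off from a tuple. -/
noncomputable def tupDet (e : ℕ) (h : Fin k → F[X]) : F :=
  ∏ j : Fin k, ((-1) ^ (e * (h j).natDegree) * (h j).coeff 0) ^ ((j : ℕ) + 1)

/-- Tuples with determinant one. -/
def DTup (F : Type v) [Field F] (e m : ℕ) : Type v := {T : Tup F m m // tupDet e T.1 = 1}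

/-- The smallest part of a tuple. -/
noncomputable def minPart (h : Fin k → F[X]) : ℕ :=
  sInf {s | ∃ j : Fin k, (j : ℕ) + 1 = s ∧ 0 < (h j).natDegree}

/-- Tuples without parts of size one. -/
def RestTup (F : Type v) [Field F] (k r : ℕ) : Type v := {T : Tup F (k + 1) r // T.1 0 = 1}

/-- Lower the degree by one, forgetting one coefficient. -/
noncomputable def lower (f : F[X]) : F[X] :=
  X ^ (f.natDegree - 1) + f.eraseLead.erase (f.natDegree - 1)

theorem lower_spec {f : F[X]} (hf : f.Monic) (hd : 0 < f.natDegree) :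
    (lower f).Monic ∧ (lower f).natDegree = f.natDegree - 1 ∧
      (lower f).coeff 0 = (if f.natDegree = 1 then 1 else f.coeff 0) ∧
      f = X ^ ((lower f).natDegree + 1) + C (f.coeff (f.natDegree - 1)) * X ^ (lower f).natDegree +
        (lower f - X ^ (lower f).natDegree) := by
  have hdeg : (f.eraseLead.erase (f.natDegree - 1)).degree < ((f.natDegree - 1 : ℕ) : WithBot ℕ) := by
    rw [degree_lt_iff_coeff_zero]
    intro i hi
    rw [coeff_erase]
    split_ifs with h
    · rfl
    · rw [eraseLead_coeff]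
      split_ifs with h'
      · rfl
      · exact coeff_eq_zero_of_natDegree_lt (by omega)
  have hm : (lower f).Monic := monic_X_pow_add hdeg
  have hn : (lower f).natDegree = f.natDegree - 1 := by
    refine natDegree_eq_of_degree_eq_some ?_
    rw [lower, degree_add_eq_left_of_degree_lt (by rwa [degree_X_pow]), degree_X_pow]
  refine ⟨hm, hn, ?_, ?_⟩
  · rw [lower, coeff_add, coeff_X_pow, coeff_erase, eraseLead_coeff]
    split_ifs <;> simp <;> omega
  · rw [hn, lower, add_sub_cancel_left, Nat.sub_add_cancel hd]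
    ext i
    rw [coeff_add, coeff_add, coeff_X_pow, coeff_C_mul, coeff_X_pow, coeff_erase, eraseLead_coeff]
    rcases eq_or_ne i f.natDegree with h1 | h1
    · subst h1
      simp [hf.coeff_natDegree, (show f.natDegree ≠ f.natDegree - 1 by omega)]
    · rcases eq_or_ne i (f.natDegree - 1) with h2 | h2
      · simp [h2, (show f.natDegree - 1 ≠ f.natDegree by omega)]
      · simp [h1, h2]

/-- Remove one letter from the part in position `j`. -/
noncomputable def removeAt (h : Fin k → F[X]) (j : Fin k) : Fin k → F[X] :=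
  Function.update h j (lower (h j))

theorem removeAt_spec {r : ℕ} (T : Tup F k r) (j : Fin k) (hj : 0 < (T.1 j).natDegree) :
    (∀ i, (removeAt T.1 j i).Monic ∧ (removeAt T.1 j i).coeff 0 ≠ 0) ∧
      ∑ i : Fin k, ((i : ℕ) + 1) * (removeAt T.1 j i).natDegree + ((j : ℕ) + 1) = r := by
  classical
  obtain ⟨h1, h2, h3, -⟩ := lower_spec (T.2.1 j).1 hj
  refine ⟨fun i => ?_, ?_⟩
  · rcases eq_or_ne i j with rfl | hi
    · rw [removeAt, Function.update_self, h3]
      refine ⟨h1, ?_⟩
      split_ifs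
      · exact one_ne_zero
      · exact (T.2.1 i).2
    · rw [removeAt, Function.update_of_ne hi]
      exact T.2.1 i
  · refine Eq.trans ?_ T.2.2
    rw [← Finset.add_sum_erase _ _ (Finset.mem_univ j), ← Finset.add_sum_erase _ _ (Finset.mem_univ j),
      removeAt, Function.update_self, h2,
      Finset.sum_congr rfl (fun i hi => by rw [Function.update_of_ne (Finset.ne_of_mem_erase hi)]),
      show (T.1 j).natDegree = (T.1 j).natDegree - 1 + 1 by omega]
    simp only [Nat.add_sub_cancel]
    ring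

theorem eq_of_removeAt {r : ℕ} (T T' : Tup F k r) (j : Fin k) (hT : 0 < (T.1 j).natDegree)
    (hT' : 0 < (T'.1 j).natDegree)
    (hl : (T.1 j).coeff ((T.1 j).natDegree - 1) = (T'.1 j).coeff ((T'.1 j).natDegree - 1))
    (h : removeAt T.1 j = removeAt T'.1 j) : T = T' := by
  classical
  refine Subtype.ext (_root_.funext fun i => ?_)
  have hi := congrFun h i
  rcases eq_or_ne i j with rfl | hne
  · simp only [removeAt, Function.update_self] at hi
    rw [(lower_spec (T.2.1 i).1 hT).2.2.2, (lower_spec (T'.2.1 i).1 hT').2.2.2, hl, hi]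
  · simpa only [removeAt, Function.update_of_ne hne] using hi

theorem minPart_spec {m : ℕ} (hm : 0 < m) (T : Tup F k m) :
    (∃ j : Fin k, (j : ℕ) + 1 = minPart T.1 ∧ 0 < (T.1 j).natDegree) ∧
      ∀ j : Fin k, 0 < (T.1 j).natDegree → minPart T.1 ≤ (j : ℕ) + 1 := by
  refine ⟨Nat.sInf_mem (s := {s | ∃ j : Fin k, (j : ℕ) + 1 = s ∧ 0 < (T.1 j).natDegree}) ?_,
    fun j hj => Nat.sInf_le ⟨j, rfl, hj⟩⟩
  by_contra hne
  have h0 : ∀ j : Fin k, (T.1 j).natDegree = 0 := fun j =>
    Nat.eq_zero_of_not_pos fun hj => hne ⟨_, j, rfl, hj⟩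
  have := T.2.2
  simp [h0] at this
  omega

theorem part_le {r : ℕ} (T : Tup F k r) (j : Fin k) : ((j : ℕ) + 1) * (T.1 j).natDegree ≤ r :=
  (Finset.single_le_sum (f := fun i : Fin k => ((i : ℕ) + 1) * (T.1 i).natDegree) (fun _ _ => Nat.zero_le _)
    (Finset.mem_univ j)).trans T.2.2.le

variable [Fintype F]

theorem finite_restTup (k r : ℕ) : Finite (RestTup F k r) := by
  haveI := (card_tup F (k + 1) r).1
  exact Subtype.finite

theorem finite_dTup (e m : ℕ) : Finite (DTup F e m) := by
  haveI := (card_tup F m m).1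
  exact Subtype.finite

theorem card_rest_zero (k : ℕ) : Nat.card (RestTup F k 0) ≤ 1 := by
  haveI := finite_restTup (F := F) k 0
  refine Finite.card_le_one_iff_subsingleton.2 ⟨fun a b => Subtype.ext (Subtype.ext (_root_.funext fun j => ?_))⟩
  have h : ∀ T : RestTup F k 0, T.1.1 j = 1 := fun T => by
    refine (T.1.2.1 j).1.natDegree_eq_zero.1 ?_
    have := part_le T.1 j
    exact Nat.eq_zero_of_not_pos fun hp => by
      have : 0 < ((j : ℕ) + 1) * (T.1.1 j).natDegree := Nat.mul_pos (Nat.succ_pos _) hp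
      omega
  rw [h a, h b]

theorem two_le_minPart {r : ℕ} (hr : 0 < r) (T : RestTup F k r) : 2 ≤ minPart T.1.1 := by
  obtain ⟨⟨j, hj, hjd⟩, -⟩ := minPart_spec hr T.1
  have : j ≠ 0 := fun h => by subst h; rw [T.2, natDegree_one] at hjd; exact lt_irrefl 0 hjd
  have : (j : ℕ) ≠ 0 := fun h => this (Fin.ext h)
  omega

theorem card_rest_one (k : ℕ) : Nat.card (RestTup F k 1) = 0 := by
  haveI : IsEmpty (RestTup F k 1) := ⟨fun T => by
    have := two_le_minPart one_pos T
    obtain ⟨⟨j, hj, hjd⟩, -⟩ := minPart_spec one_pos T.1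
    have := part_le T.1 j
    have : (j : ℕ) + 1 ≤ ((j : ℕ) + 1) * (T.1.1 j).natDegree := Nat.le_mul_of_pos_right _ hjd
    omega⟩
  exact Nat.card_of_isEmpty

theorem card_rest_rec (k r : ℕ) (hr : 2 ≤ r) :
    Nat.card (RestTup F k r) ≤ (Fintype.card F - 1) +
      ∑ s ∈ Finset.Ico 2 r, Fintype.card F * Nat.card (RestTup F k (r - s)) := by
  classical
  haveI := finite_restTup (F := F) k r
  haveI : ∀ i, Finite (RestTup F k i) := fun i => finite_restTup k i
  haveI : ∀ i : ↥(Finset.Ico 2 r), Finite (F × RestTup F k (r - i.1)) := fun i => inferInstance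
  have key : ∀ T : RestTup F k r, ∃ j : Fin (k + 1), (j : ℕ) + 1 = minPart T.1.1 ∧ 0 < (T.1.1 j).natDegree :=
    fun T => (minPart_spec (by omega) T.1).1
  choose j hj hjd using key
  have hjr : ∀ T, (j T : ℕ) + 1 ≤ r := fun T =>
    (Nat.le_mul_of_pos_right _ (hjd T)).trans (part_le T.1 (j T))
  have hj2 : ∀ T, 2 ≤ (j T : ℕ) + 1 := fun T => (two_le_minPart (by omega) T).trans (hj T).ge
  let red : ∀ T : RestTup F k r, RestTup F k (r - ((j T : ℕ) + 1)) := fun T =>
    ⟨⟨removeAt T.1.1 (j T), (removeAt_spec T.1 _ (hjd T)).1, by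
        have := (removeAt_spec T.1 _ (hjd T)).2; omega⟩, by
      show removeAt T.1.1 (j T) 0 = 1
      rw [removeAt, Function.update_of_ne (fun h : (0 : Fin (k + 1)) = j T => by
        have := hj2 T; have := congrArg Fin.val h; simp at this; omega)]
      exact T.2⟩
  have hsame : ∀ T T' : RestTup F k r, (j T : ℕ) = j T' →
      (T.1.1 (j T)).coeff ((T.1.1 (j T)).natDegree - 1) = (T'.1.1 (j T')).coeff ((T'.1.1 (j T')).natDegree - 1) →
      removeAt T.1.1 (j T) = removeAt T'.1.1 (j T') → T = T' := by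
    intro T T' h1 h2 h3
    have hd : 0 < (T'.1.1 (j T)).natDegree := by rw [Fin.ext h1]; exact hjd T'
    rw [← Fin.ext h1] at h2 h3
    exact Subtype.ext (eq_of_removeAt T.1 T'.1 (j T) (hjd T) hd h2 h3)
  let A := {T : RestTup F k r // (j T : ℕ) + 1 = r}
  let B := {T : RestTup F k r // ¬ (j T : ℕ) + 1 = r}
  rw [← Nat.card_congr (Equiv.sumCompl fun T : RestTup F k r => (j T : ℕ) + 1 = r), Nat.card_sum]
  refine add_le_add ?_ ?_
  · have hd1 : ∀ T : A, (T.1.1.1 (j T.1)).natDegree = 1 := fun T => by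
      have := part_le T.1.1 (j T.1)
      have := hjd T.1
      rw [T.2] at *
      nlinarith
    let f : A → {a : F // a ≠ 0} := fun T =>
      ⟨(T.1.1.1 (j T.1)).coeff ((T.1.1.1 (j T.1)).natDegree - 1), by rw [hd1]; exact (T.1.1.2.1 _).2⟩
    have hf : Function.Injective f := fun T T' h => by
      refine Subtype.ext (hsame _ _ (by have := T.2; have := T'.2; omega) (congrArg Subtype.val h) ?_)
      have h0 : ∀ T : A, ∀ i, removeAt T.1.1.1 (j T.1) i = 1 := fun T i => by
        obtain ⟨h1, h2⟩ := removeAt_spec T.1.1 _ (hjd T.1)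
        rw [T.2] at h2
        refine (h1 i).1.natDegree_eq_zero.1 ?_
        have h3 := Finset.single_le_sum (f := fun i : Fin (k + 1) =>
          ((i : ℕ) + 1) * (removeAt T.1.1.1 (j T.1) i).natDegree) (fun _ _ => Nat.zero_le _) (Finset.mem_univ i)
        have h4 : ((i : ℕ) + 1) * (removeAt T.1.1.1 (j T.1) i).natDegree = 0 := by omega
        exact (mul_eq_zero.1 h4).resolve_left (Nat.succ_ne_zero _)
      exact _root_.funext fun i => by rw [h0 T i, h0 T' i]
    refine (Nat.card_le_card_of_injective f hf).trans ?_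
    rw [Nat.card_eq_fintype_card, Fintype.card_subtype_compl, Fintype.card_subtype_eq]
  · let f : B → Σ s : ↥(Finset.Ico 2 r), F × RestTup F k (r - s.1) := fun T =>
      ⟨⟨(j T.1 : ℕ) + 1, Finset.mem_Ico.2 ⟨hj2 T.1, lt_of_le_of_ne (hjr T.1) T.2⟩⟩,
        (T.1.1.1 (j T.1)).coeff ((T.1.1.1 (j T.1)).natDegree - 1), red T.1⟩
    have hf : Function.Injective f := fun T T' h => by
      have h1 : ((f T).1.1, (f T).2.1, (f T).2.2.1.1) = ((f T').1.1, (f T').2.1, (f T').2.2.1.1) :=
        congrArg (fun x : Σ s : ↥(Finset.Ico 2 r), F × RestTup F k (r - s.1) => (x.1.1, x.2.1, x.2.2.1.1)) h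
      obtain ⟨e1, e2, e3⟩ := by simpa only [Prod.mk.injEq] using h1
      exact Subtype.ext (hsame _ _ (Nat.succ.inj e1) e2 e3)
    refine (Nat.card_le_card_of_injective f hf).trans ?_
    rw [Nat.card_sigma, ← Finset.sum_coe_sort (Finset.Ico 2 r)]
    exact le_of_eq (Finset.sum_congr rfl fun s _ => by rw [Nat.card_prod, Nat.card_eq_fintype_card (α := F)])

theorem card_rest_small (k : ℕ) :
    Nat.card (RestTup F k 2) ≤ Fintype.card F - 1 ∧ Nat.card (RestTup F k 3) ≤ Fintype.card F - 1 := by
  refine ⟨(card_rest_rec k 2 le_rfl).trans (by simp), (card_rest_rec k 3 (by omega)).trans ?_⟩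
  simp [Finset.sum_Ico_succ_top, card_rest_one]

theorem card_rest_le (k : ℕ) : ∀ r, Nat.card (RestTup F k r) ≤ Fintype.card F ^ (r - 1) := by
  intro r
  induction r using Nat.strong_induction_on with
  | _ r ih =>
  have hq := Fintype.one_lt_card (α := F)
  rcases Nat.lt_or_ge r 2 with h | h
  · rcases Nat.eq_zero_or_pos r with h0 | h0
    · subst h0; exact (card_rest_zero k).trans (by simp)
    · rw [show r = 1 by omega, card_rest_one]; exact Nat.zero_le _
  · refine (card_rest_rec k r h).trans ?_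
    have h1 : ∀ t, 2 + t ≤ r → (Fintype.card F - 1) +
        ∑ s ∈ Finset.Ico 2 (2 + t), Fintype.card F * Nat.card (RestTup F k (r - s)) + Fintype.card F ^ (r - 1 - t) ≤
          Fintype.card F ^ (r - 1) + (Fintype.card F - 1) := by
      intro t
      induction t with
      | zero => simp; omega
      | succ t iht =>
        intro ht
        rw [show 2 + (t + 1) = 2 + t + 1 by omega, Finset.sum_Ico_succ_top (by omega)]
        have h2 := Nat.mul_le_mul_left (Fintype.card F) (ih (r - (2 + t)) (by omega))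
        have h3 : Fintype.card F * Fintype.card F ^ (r - (2 + t) - 1) + Fintype.card F ^ (r - 1 - (t + 1)) ≤
            Fintype.card F ^ (r - 1 - t) := by
          rw [← pow_succ', show r - 1 - (t + 1) = r - (2 + t) - 1 + 1 by omega,
            show r - 1 - t = r - (2 + t) - 1 + 1 + 1 by omega, pow_succ _ (r - (2 + t) - 1 + 1)]
          calc _ = Fintype.card F ^ (r - (2 + t) - 1 + 1) * 2 := by ring
            _ ≤ _ := Nat.mul_le_mul_left _ hq
        have := iht (by omega)
        omega
    have h4 := h1 (r - 2) (by omega)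
    rw [show 2 + (r - 2) = r by omega, show r - 1 - (r - 2) = 1 by omega, pow_one] at h4
    omega

theorem card_rest_le' (hq : 3 ≤ Fintype.card F) (k : ℕ) :
    ∀ r, 4 ≤ r → Nat.card (RestTup F k r) ≤ Fintype.card F ^ (r - 2) := by
  intro r
  induction r using Nat.strong_induction_on with
  | _ r ih =>
  intro hr
  refine (card_rest_rec k r (by omega)).trans ?_
  obtain ⟨hs2, hs3⟩ := card_rest_small (F := F) k
  have h1 := card_rest_one (F := F) k
  obtain ⟨u, hu⟩ : ∃ u, Fintype.card F = u + 1 := ⟨Fintype.card F - 1, by omega⟩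
  rcases (show r = 4 ∨ r = 5 ∨ 6 ≤ r by omega) with rfl | rfl | h6
  · simp only [Finset.sum_Ico_succ_top (show 2 ≤ 3 by omega), Finset.sum_Ico_succ_top (le_refl 2),
      Finset.Ico_self, Finset.sum_empty, zero_add]
    rw [show 4 - 3 = 1 from rfl, show 4 - 2 = 2 from rfl, h1, mul_zero, add_zero, hu, Nat.add_sub_cancel]
    rw [hu, Nat.add_sub_cancel] at hs2
    nlinarith [Nat.mul_le_mul_left (u + 1) hs2]
  · simp only [Finset.sum_Ico_succ_top (show 2 ≤ 4 by omega), Finset.sum_Ico_succ_top (show 2 ≤ 3 by omega),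
      Finset.sum_Ico_succ_top (le_refl 2), Finset.Ico_self, Finset.sum_empty, zero_add]
    rw [show 5 - 4 = 1 from rfl, show 5 - 3 = 2 from rfl, show 5 - 2 = 3 from rfl, h1, mul_zero, add_zero, hu,
      Nat.add_sub_cancel]
    rw [hu, Nat.add_sub_cancel] at hs2 hs3
    nlinarith [Nat.mul_le_mul_left (u + 1) hs2, Nat.mul_le_mul_left (u + 1) hs3, Nat.zero_le (u ^ 3), Nat.zero_le (u ^ 2)]
  · obtain ⟨t, rfl⟩ := Nat.exists_eq_add_of_le h6
    have hgeo : ∀ a, a ≤ t + 1 → ∑ s ∈ Finset.Ico 2 (2 + a), Fintype.card F * Nat.card (RestTup F k (6 + t - s)) +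
        2 * Fintype.card F ^ (t + 3 - a) ≤ 2 * Fintype.card F ^ (t + 3) := by
      intro a
      induction a with
      | zero => simp
      | succ a iha =>
        intro ha
        rw [show 2 + (a + 1) = 2 + a + 1 by omega, Finset.sum_Ico_succ_top (by omega)]
        have h2 := Nat.mul_le_mul_left (Fintype.card F) (ih (6 + t - (2 + a)) (by omega) (by omega))
        rw [← pow_succ', show 6 + t - (2 + a) - 2 + 1 = t + 3 - a by omega] at h2
        have := iha (by omega)
        have h3 : 2 * Fintype.card F ^ (t + 3 - (a + 1)) ≤ Fintype.card F ^ (t + 3 - a) := by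
          rw [show t + 3 - a = t + 3 - (a + 1) + 1 by omega, pow_succ']
          exact Nat.mul_le_mul_right _ (by omega)
        omega
    rw [show 6 + t = 2 + (t + 1) + 3 by omega]
    simp only [Finset.sum_Ico_succ_top (show 2 ≤ 2 + (t + 1) + 2 by omega),
      Finset.sum_Ico_succ_top (show 2 ≤ 2 + (t + 1) + 1 by omega),
      Finset.sum_Ico_succ_top (show 2 ≤ 2 + (t + 1) by omega)]
    rw [show 2 + (t + 1) + 3 - (2 + (t + 1) + 2) = 1 by omega, show 2 + (t + 1) + 3 - (2 + (t + 1) + 1) = 2 by omega,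
      show 2 + (t + 1) + 3 - (2 + (t + 1)) = 3 by omega, h1, mul_zero, add_zero,
      show 2 + (t + 1) + 3 - 2 = t + 3 + 1 by omega]
    have hg := hgeo (t + 1) le_rfl
    rw [show 6 + t = 2 + (t + 1) + 3 by omega, show t + 3 - (t + 1) = 2 by omega, pow_two] at hg
    have h7 : 3 * Fintype.card F ^ (t + 3) ≤ Fintype.card F ^ (t + 3 + 1) := by
      rw [pow_succ' _ (t + 3)]; exact Nat.mul_le_mul_right _ hq
    have h8 : Fintype.card F * Fintype.card F ≤ Fintype.card F ^ (t + 3) :=
      (le_of_eq (pow_two _).symm).trans (Nat.pow_le_pow_right (by omega) (by omega))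
    have h9 := Nat.mul_le_mul_left (Fintype.card F) hs2
    have h10 := Nat.mul_le_mul_left (Fintype.card F) hs3
    rw [Nat.mul_sub, mul_one] at h9 h10
    have := Nat.le_mul_self (Fintype.card F)
    omega

theorem card_minPart_one_sum (e k : ℕ) :
    Nat.card {T : DTup F e (k + 1) // minPart T.1.1 = 1} ≤
      ∑ d ∈ Finset.range (k + 1), Fintype.card F ^ d * Nat.card (RestTup F k (k - d)) := by
  classical
  haveI := finite_dTup (F := F) e (k + 1)
  haveI : ∀ i, Finite (RestTup F k i) := fun i => finite_restTup k i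
  let X' := {T : DTup F e (k + 1) // minPart T.1.1 = 1}
  have hd : ∀ T : X', 0 < (T.1.1.1 0).natDegree := fun T => by
    obtain ⟨⟨j, hj, hjd⟩, -⟩ := minPart_spec (Nat.succ_pos k) T.1.1
    rw [T.2] at hj
    rwa [show j = 0 from Fin.ext (by rw [Fin.val_zero]; omega)] at hjd
  have hd' : ∀ T : X', (T.1.1.1 0).natDegree ≤ k + 1 := fun T => by
    have := part_le T.1.1 0
    simpa using this
  let rest : ∀ T : X', RestTup F k (k - ((T.1.1.1 0).natDegree - 1)) := fun T =>
    ⟨⟨Function.update T.1.1.1 0 1, fun i => by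
        rcases eq_or_ne i 0 with rfl | hi
        · rw [Function.update_self]; exact ⟨monic_one, by simp⟩
        · rw [Function.update_of_ne hi]; exact T.1.1.2.1 i, by
      have h := T.1.1.2.2
      rw [← Finset.add_sum_erase _ _ (Finset.mem_univ (0 : Fin (k + 1)))] at h ⊢
      rw [Function.update_self, natDegree_one,
        Finset.sum_congr rfl (fun i hi => by rw [Function.update_of_ne (Finset.ne_of_mem_erase hi)])]
      have := hd T
      simp only [Fin.val_zero, zero_add, one_mul, mul_zero] at h ⊢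
      omega⟩, by show Function.update T.1.1.1 (0 : Fin (k + 1)) (1 : F[X]) 0 = 1; exact Function.update_self ..⟩
  let f : X' → Σ d : Fin (k + 1), (Fin d → F) × RestTup F k (k - d) := fun T =>
    ⟨⟨(T.1.1.1 0).natDegree - 1, by have := hd T; have := hd' T; omega⟩,
      fun i => (T.1.1.1 0).coeff ((i : ℕ) + 1), rest T⟩
  have hf : Function.Injective f := fun T T' h => by
    have h1 : ((f T).1.1, (fun i : ℕ => if hi : i < (f T).1.1 then (f T).2.1 ⟨i, hi⟩ else 0), (f T).2.2.1.1) =
        ((f T').1.1, (fun i : ℕ => if hi : i < (f T').1.1 then (f T').2.1 ⟨i, hi⟩ else 0), (f T').2.2.1.1) :=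
      congrArg (fun x : Σ d : Fin (k + 1), (Fin d → F) × RestTup F k (k - d) =>
        (x.1.1, (fun i : ℕ => if hi : i < x.1.1 then x.2.1 ⟨i, hi⟩ else 0), x.2.2.1.1)) h
    obtain ⟨e1, e2, e3⟩ := by simpa only [Prod.mk.injEq] using h1
    have hdeg : (T.1.1.1 0).natDegree = (T'.1.1.1 0).natDegree := by
      have := hd T; have := hd T'
      simp only [f] at e1
      omega
    have hrest : ∀ i, i ≠ 0 → T.1.1.1 i = T'.1.1.1 i := fun i hi => by
      have := congrFun e3 i
      simpa [f, rest, Function.update_of_ne hi] using this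
    have hc : (T.1.1.1 0).coeff 0 = (T'.1.1.1 0).coeff 0 := by
      have h2 := T.1.2.trans T'.1.2.symm
      rw [tupDet, tupDet, ← Finset.mul_prod_erase _ _ (Finset.mem_univ (0 : Fin (k + 1))),
        ← Finset.mul_prod_erase _ _ (Finset.mem_univ (0 : Fin (k + 1))),
        Finset.prod_congr rfl (fun i hi => by rw [hrest i (Finset.ne_of_mem_erase hi)]), hdeg] at h2
      have hne : ∏ x ∈ Finset.univ.erase (0 : Fin (k + 1)),
          ((-1 : F) ^ (e * (T'.1.1.1 x).natDegree) * (T'.1.1.1 x).coeff 0) ^ ((x : ℕ) + 1) ≠ 0 :=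
        Finset.prod_ne_zero_iff.2 fun i _ => pow_ne_zero _
          (mul_ne_zero (pow_ne_zero _ (neg_ne_zero.2 one_ne_zero)) (T'.1.1.2.1 i).2)
      have h3 := mul_right_cancel₀ hne h2
      simp only [Fin.val_zero, zero_add, pow_one] at h3
      exact mul_left_cancel₀ (pow_ne_zero _ (neg_ne_zero.2 one_ne_zero)) h3
    refine Subtype.ext (Subtype.ext (Subtype.ext (_root_.funext fun i => ?_)))
    rcases eq_or_ne i 0 with rfl | hi
    · ext l
      rcases Nat.eq_zero_or_pos l with rfl | hl
      · exact hc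
      · rcases lt_trichotomy l (T.1.1.1 0).natDegree with hlt | heq | hgt
        · have := congrFun e2 (l - 1)
          simp only [f] at this
          rw [dif_pos (by omega), dif_pos (by omega)] at this
          rwa [show l - 1 + 1 = l by omega] at this
        · rw [heq, (T.1.1.2.1 0).1.coeff_natDegree, hdeg, (T'.1.1.2.1 0).1.coeff_natDegree]
        · rw [coeff_eq_zero_of_natDegree_lt hgt, coeff_eq_zero_of_natDegree_lt (hdeg ▸ hgt)]
    · exact hrest i hi
  refine (Nat.card_le_card_of_injective f hf).trans ?_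
  rw [Nat.card_sigma, ← Fin.sum_univ_eq_sum_range (fun d => Fintype.card F ^ d * Nat.card (RestTup F k (k - d)))]
  exact le_of_eq (Finset.sum_congr rfl fun d _ => by
    rw [Nat.card_prod, Nat.card_fun, Nat.card_fin, Nat.card_eq_fintype_card (α := F)])

theorem card_minPart_one_pow (e k : ℕ) :
    (Fintype.card F - 1) * Nat.card {T : DTup F e (k + 1) // minPart T.1.1 = 1} ≤ Fintype.card F ^ (k + 1) := by
  classical
  haveI := finite_dTup (F := F) e (k + 1)
  haveI := (card_tup F (k + 1) (k + 1)).1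
  let X' := {T : DTup F e (k + 1) // minPart T.1.1 = 1}
  have hd : ∀ T : X', 0 < (T.1.1.1 0).natDegree := fun T => by
    obtain ⟨⟨j, hj, hjd⟩, -⟩ := minPart_spec (Nat.succ_pos k) T.1.1
    rw [T.2] at hj
    rwa [show j = 0 from Fin.ext (by rw [Fin.val_zero]; omega)] at hjd
  let g : Fˣ → X' → F[X] := fun c T => T.1.1.1 0 + C (((c : F) - 1) * (T.1.1.1 0).coeff 0)
  have hg : ∀ c T, (g c T).Monic ∧ (g c T).natDegree = (T.1.1.1 0).natDegree ∧
      (g c T).coeff 0 = c * (T.1.1.1 0).coeff 0 := fun c T => by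
    refine ⟨(T.1.1.2.1 0).1.add_of_left ?_, natDegree_add_C, ?_⟩
    · refine degree_C_le.trans_lt ?_
      rw [degree_eq_natDegree (T.1.1.2.1 0).1.ne_zero]
      exact_mod_cast hd T
    · simp only [g, coeff_add, coeff_C_zero]
      ring
  let f : Fˣ × X' → Tup F (k + 1) (k + 1) := fun x =>
    ⟨Function.update x.2.1.1.1 0 (g x.1 x.2), fun i => by
      rcases eq_or_ne i 0 with rfl | hi
      · rw [Function.update_self]
        exact ⟨(hg x.1 x.2).1, by rw [(hg x.1 x.2).2.2]; exact mul_ne_zero x.1.ne_zero (x.2.1.1.2.1 0).2⟩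
      · rw [Function.update_of_ne hi]; exact x.2.1.1.2.1 i, by
      refine Eq.trans (Finset.sum_congr rfl fun i _ => ?_) x.2.1.1.2.2
      rcases eq_or_ne i 0 with rfl | hi
      · rw [Function.update_self, (hg x.1 x.2).2.1]
      · rw [Function.update_of_ne hi]⟩
  have hf : Function.Injective f := by
    rintro ⟨c, T⟩ ⟨c', T'⟩ h
    have h1 : ∀ i, Function.update T.1.1.1 0 (g c T) i = Function.update T'.1.1.1 0 (g c' T') i :=
      fun i => congrFun (congrArg Subtype.val h) i
    have h0 := h1 0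
    rw [Function.update_self, Function.update_self] at h0
    have hrest : ∀ i, i ≠ 0 → T.1.1.1 i = T'.1.1.1 i := fun i hi => by
      have := h1 i
      rwa [Function.update_of_ne hi, Function.update_of_ne hi] at this
    have hdeg : (T.1.1.1 0).natDegree = (T'.1.1.1 0).natDegree := by
      rw [← (hg c T).2.1, h0, (hg c' T').2.1]
    have hc : (T.1.1.1 0).coeff 0 = (T'.1.1.1 0).coeff 0 := by
      have h2 := T.1.2.trans T'.1.2.symm
      rw [tupDet, tupDet, ← Finset.mul_prod_erase _ _ (Finset.mem_univ (0 : Fin (k + 1))),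
        ← Finset.mul_prod_erase _ _ (Finset.mem_univ (0 : Fin (k + 1))),
        Finset.prod_congr rfl (fun i hi => by rw [hrest i (Finset.ne_of_mem_erase hi)]), hdeg] at h2
      have hne : ∏ x ∈ Finset.univ.erase (0 : Fin (k + 1)),
          ((-1 : F) ^ (e * (T'.1.1.1 x).natDegree) * (T'.1.1.1 x).coeff 0) ^ ((x : ℕ) + 1) ≠ 0 :=
        Finset.prod_ne_zero_iff.2 fun i _ => pow_ne_zero _
          (mul_ne_zero (pow_ne_zero _ (neg_ne_zero.2 one_ne_zero)) (T'.1.1.2.1 i).2)
      have h3 := mul_right_cancel₀ hne h2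
      simp only [Fin.val_zero, zero_add, pow_one] at h3
      exact mul_left_cancel₀ (pow_ne_zero _ (neg_ne_zero.2 one_ne_zero)) h3
    have hcc : c = c' := by
      have h4 := congrArg (fun p : F[X] => p.coeff 0) h0
      rw [(hg c T).2.2, (hg c' T').2.2, hc] at h4
      exact Units.ext (mul_right_cancel₀ (T'.1.1.2.1 0).2 h4)
    subst hcc
    refine Prod.ext rfl (Subtype.ext (Subtype.ext (Subtype.ext (_root_.funext fun i => ?_))))
    rcases eq_or_ne i 0 with rfl | hi
    · simp only [g, hc] at h0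
      exact add_right_cancel h0
    · exact hrest i hi
  have h := (Nat.card_le_card_of_injective f hf).trans ((card_tup F (k + 1) (k + 1)).2.trans
    (count_bound (Fintype.card F - 1) (k + 1) (k + 1)).1)
  rwa [Nat.card_prod, Nat.card_units, Nat.card_eq_fintype_card (α := F), Nat.sub_add_cancel Fintype.card_pos] at h

theorem card_minPart_le (e k s : ℕ) (hs : 2 ≤ s) :
    Nat.card {T : DTup F e (k + 1) // minPart T.1.1 = s} ≤
      Fintype.card F * Nat.card (RestTup F k (k + 1 - s)) := by
  classical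
  haveI := finite_dTup (F := F) e (k + 1)
  haveI : ∀ i, Finite (RestTup F k i) := fun i => finite_restTup k i
  let X' := {T : DTup F e (k + 1) // minPart T.1.1 = s}
  rcases isEmpty_or_nonempty X' with hX | ⟨⟨T₀⟩⟩
  · haveI : IsEmpty {T : DTup F e (k + 1) // minPart T.1.1 = s} := hX
    exact Nat.card_of_isEmpty.trans_le (Nat.zero_le _)
  obtain ⟨⟨j, hj, -⟩, -⟩ := minPart_spec (Nat.succ_pos k) T₀.1.1
  rw [T₀.2] at hj
  have hjd : ∀ T : X', 0 < (T.1.1.1 j).natDegree := fun T => by
    obtain ⟨⟨i, hi, hid⟩, -⟩ := minPart_spec (Nat.succ_pos k) T.1.1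
    rw [T.2] at hi
    rwa [show i = j from Fin.ext (by omega)] at hid
  have h0 : ∀ T : X', T.1.1.1 0 = 1 := fun T => (T.1.1.2.1 0).1.natDegree_eq_zero.1 (Nat.eq_zero_of_not_pos fun h => by
    have := (minPart_spec (Nat.succ_pos k) T.1.1).2 0 h
    rw [T.2] at this
    simp at this
    omega)
  let f : X' → F × RestTup F k (k + 1 - s) := fun T =>
    ((T.1.1.1 j).coeff ((T.1.1.1 j).natDegree - 1),
      ⟨⟨removeAt T.1.1.1 j, (removeAt_spec T.1.1 _ (hjd T)).1, by
        have := (removeAt_spec T.1.1 _ (hjd T)).2; omega⟩, by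
        show removeAt T.1.1.1 j 0 = 1
        rw [removeAt, Function.update_of_ne (fun h : (0 : Fin (k + 1)) = j => by
          have := congrArg Fin.val h; simp at this; omega)]
        exact h0 T⟩)
  have hf : Function.Injective f := fun T T' h =>
    Subtype.ext (Subtype.ext (eq_of_removeAt T.1.1 T'.1.1 j (hjd T) (hjd T') (congrArg Prod.fst h)
      (congrArg (fun x => x.2.1.1) h)))
  refine (Nat.card_le_card_of_injective f hf).trans ?_
  rw [Nat.card_prod, Nat.card_eq_fintype_card (α := F)]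

theorem minPart_half {e k : ℕ} (T : DTup F e (k + 1)) :
    minPart T.1.1 = k + 1 ∨ 2 * minPart T.1.1 ≤ k + 1 := by
  classical
  obtain ⟨⟨j, hj, hjd⟩, hmin⟩ := minPart_spec (Nat.succ_pos k) T.1
  obtain ⟨h1, h2⟩ := removeAt_spec T.1 j hjd
  rw [hj] at h2
  by_cases h : ∀ i, (removeAt T.1.1 j i).natDegree = 0
  · left
    simp only [h, mul_zero, Finset.sum_const_zero, zero_add] at h2
    exact h2
  · right
    obtain ⟨i, hi⟩ := not_forall.1 h
    have h3 : 0 < (T.1.1 i).natDegree := by
      rcases eq_or_ne i j with rfl | hne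
      · exact hjd
      · rw [removeAt, Function.update_of_ne hne] at hi; omega
    have h4 := hmin i h3
    have h5 : ((i : ℕ) + 1) * 1 ≤ ∑ l : Fin (k + 1), ((l : ℕ) + 1) * (removeAt T.1.1 j l).natDegree :=
      (Nat.mul_le_mul_left _ (Nat.one_le_iff_ne_zero.2 hi)).trans
        (Finset.single_le_sum (f := fun l : Fin (k + 1) => ((l : ℕ) + 1) * (removeAt T.1.1 j l).natDegree)
          (fun _ _ => Nat.zero_le _) (Finset.mem_univ i))
    omega

theorem card_pow_eq_one_le (e m : ℕ) :
    Nat.card {a : F // ((-1 : F) ^ e * a) ^ (m + 1) = 1} ≤ Nat.gcd (m + 1) (Fintype.card F - 1) := by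
  classical
  have h0 : ((-1 : F) ^ e) * (-1) ^ e = 1 := by rw [← mul_pow]; simp
  let f : {a : F // ((-1 : F) ^ e * a) ^ (m + 1) = 1} → (powMonoidHom (m + 1) : Fˣ →* Fˣ).ker := fun a =>
    ⟨Units.mk0 ((-1 : F) ^ e * a.1) (fun h => by have := a.2; rw [h, zero_pow (Nat.succ_ne_zero m)] at this; exact zero_ne_one this),
      Units.ext (by simpa using a.2)⟩
  have hf : Function.Injective f := fun a b h => by
    have h1 := congrArg (fun x : (powMonoidHom (m + 1) : Fˣ →* Fˣ).ker => ((x : Fˣ) : F)) h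
    exact Subtype.ext (mul_left_cancel₀ (pow_ne_zero _ (neg_ne_zero.2 one_ne_zero)) h1)
  refine (Nat.card_le_card_of_injective f hf).trans ?_
  rw [IsCyclic.card_powMonoidHom_ker, Nat.card_units, Nat.card_eq_fintype_card (α := F), Nat.gcd_comm]

theorem card_minPart_top (e k : ℕ) (hk : 1 ≤ k) :
    Nat.card {T : DTup F e (k + 1) // minPart T.1.1 = k + 1} ≤ Nat.gcd (k + 1) (Fintype.card F - 1) := by
  classical
  let X' := {T : DTup F e (k + 1) // minPart T.1.1 = k + 1}
  have hone : ∀ T : X', ∀ i, i ≠ Fin.last k → T.1.1.1 i = 1 := fun T i hi =>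
    (T.1.1.2.1 i).1.natDegree_eq_zero.1 (Nat.eq_zero_of_not_pos fun h => by
      have := (minPart_spec (Nat.succ_pos k) T.1.1).2 i h
      rw [T.2] at this
      have := Fin.val_lt_last hi
      omega)
  have hlast : ∀ T : X', (T.1.1.1 (Fin.last k)).natDegree = 1 := fun T => by
    obtain ⟨⟨j, hj, hjd⟩, -⟩ := minPart_spec (Nat.succ_pos k) T.1.1
    rw [T.2] at hj
    obtain rfl : j = Fin.last k := Fin.ext (by simp; omega)
    have := part_le T.1.1 (Fin.last k)
    simp only [Fin.val_last] at this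
    nlinarith
  have hdet : ∀ T : X', ((-1 : F) ^ e * (T.1.1.1 (Fin.last k)).coeff 0) ^ (k + 1) = 1 := fun T => by
    have h := T.1.2
    rw [tupDet, Finset.prod_eq_single (Fin.last k)] at h
    · simpa [hlast T] using h
    · intro i _ hi
      simp [hone T i hi]
    · exact fun h => absurd (Finset.mem_univ _) h
  let f : X' → {a : F // ((-1 : F) ^ e * a) ^ (k + 1) = 1} := fun T => ⟨_, hdet T⟩
  have hf : Function.Injective f := fun T T' h => by
    refine Subtype.ext (Subtype.ext (Subtype.ext (_root_.funext fun i => ?_)))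
    rcases eq_or_ne i (Fin.last k) with rfl | hi
    · rw [(T.1.1.2.1 _).1.eq_X_add_C (hlast T), (T'.1.1.2.1 _).1.eq_X_add_C (hlast T')]
      exact congrArg (fun a => X + C a) (congrArg Subtype.val h)
    · rw [hone T i hi, hone T' i hi]
  exact (Nat.card_le_card_of_injective f hf).trans (card_pow_eq_one_le e k)

theorem card_minPart_two_four (e : ℕ) :
    Nat.card {T : DTup F e 4 // minPart T.1.1 = 2} ≤ Nat.gcd 2 (Fintype.card F - 1) * Fintype.card F := by
  classical
  let X' := {T : DTup F e 4 // minPart T.1.1 = 2}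
  have hshape : ∀ T : X', (T.1.1.1 1).natDegree = 2 ∧ ∀ i, i ≠ 1 → T.1.1.1 i = 1 := fun T => by
    obtain ⟨⟨j, hj, hjd⟩, hmin⟩ := minPart_spec (by norm_num : 0 < 4) T.1.1
    rw [T.2] at hj hmin
    obtain rfl : j = 1 := Fin.ext (by simp; omega)
    have h := T.1.1.2.2
    simp only [Fin.sum_univ_four] at h
    simp at h
    have h0 : (T.1.1.1 0).natDegree = 0 := Nat.eq_zero_of_not_pos fun h' => by
      have := hmin 0 h'; simp at this
    refine ⟨by omega, fun i hi => (T.1.1.2.1 i).1.natDegree_eq_zero.1 ?_⟩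
    fin_cases i <;> simp at hi ⊢ <;> omega
  have hdet : ∀ T : X', ((-1 : F) ^ (e * 2) * (T.1.1.1 1).coeff 0) ^ 2 = 1 := fun T => by
    have h := T.1.2
    rw [tupDet, Finset.prod_eq_single (1 : Fin 4)] at h
    · rw [(hshape T).1] at h
      exact h
    · intro i _ hi
      simp [(hshape T).2 i hi]
    · exact fun h => absurd (Finset.mem_univ _) h
  let f : X' → {a : F // ((-1 : F) ^ (e * 2) * a) ^ (1 + 1) = 1} × F := fun T =>
    (⟨_, hdet T⟩, (T.1.1.1 1).coeff 1)
  have hf : Function.Injective f := fun T T' h => by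
    refine Subtype.ext (Subtype.ext (Subtype.ext (_root_.funext fun i => ?_)))
    rcases eq_or_ne i 1 with rfl | hi
    · ext l
      rcases l with _ | _ | _ | l
      · exact congrArg (fun x => x.1.1) h
      · exact congrArg Prod.snd h
      · have e1 := (T.1.1.2.1 1).1.coeff_natDegree
        have e2 := (T'.1.1.2.1 1).1.coeff_natDegree
        rw [(hshape T).1] at e1
        rw [(hshape T').1] at e2
        exact e1.trans e2.symm
      · rw [coeff_eq_zero_of_natDegree_lt (by rw [(hshape T).1]; omega),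
          coeff_eq_zero_of_natDegree_lt (by rw [(hshape T').1]; omega)]
    · rw [(hshape T).2 i hi, (hshape T').2 i hi]
  refine (Nat.card_le_card_of_injective f hf).trans ?_
  rw [Nat.card_prod, Nat.card_eq_fintype_card (α := F)]
  exact Nat.mul_le_mul_right _ (card_pow_eq_one_le (e * 2) 1)

end CfsgLib.SLBound
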