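import Cfsg.Agent.Lib.KnownSimple.SLClassBound.Blocks
import Cfsg.Agent.Lib.KnownSimple.NilpotentTypes.Basic

/-!
# Primary types of invertible matrices
-/

set_option autoImplicit false

namespace CfsgLib.SLBound

open Polynomial Module CfsgLib.SSClasses CfsgLib.GLClassBound

universe v

variable {F : Type v} [Field F] {n : ℕ}

/-- Admissible primary types. -/
def GoodType (n : ℕ) (S : Multiset (F[X] × ℕ)) : Prop :=
  (∀ x ∈ S, x.1.Monic ∧ Irreducible x.1 ∧ x.1.coeff 0 ≠ 0 ∧ 0 < x.2) ∧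
    (S.map fun x => x.2 * x.1.natDegree).sum = n

/-- `S` is the primary type of `g`. -/
def HasPType (g : GL (Fin n) F) (S : Multiset (F[X] × ℕ)) : Prop :=
  ∃ (ι : Type v) (_ : Fintype ι) (pe : ι → F[X] × ℕ), Finset.univ.val.map pe = S ∧ GoodType n S ∧
    Nonempty (MatMod (g : Matrix (Fin n) (Fin n) F) ≃ₗ[F[X]] PMdl pe)

theorem exists_ptype (g : GL (Fin n) F) : ∃ S, HasPType g S := by
  obtain ⟨ι, hι, pe, h1, h2, h3⟩ := exists_primary g
  refine ⟨_, ι, hι, pe, rfl, ⟨fun x hx => ?_, ?_⟩, h3⟩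
  · obtain ⟨i, -, rfl⟩ := Multiset.mem_map.1 hx
    exact h1 i
  · rw [Multiset.map_map]
    exact h2

/-- The primary type of a matrix. -/
noncomputable def ptype (g : GL (Fin n) F) : Multiset (F[X] × ℕ) := (exists_ptype g).choose

theorem ptype_spec (g : GL (Fin n) F) : HasPType g (ptype g) := (exists_ptype g).choose_spec

theorem ptype_good (g : GL (Fin n) F) : GoodType n (ptype g) := by
  obtain ⟨_, _, _, _, h, _⟩ := ptype_spec g
  exact h

theorem isConj_of_ptype_eq {g g' : GL (Fin n) F} (h : ptype g = ptype g') : IsConj g g' := by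
  obtain ⟨ι, _, a, ha, -, ⟨Φ⟩⟩ := ptype_spec g
  obtain ⟨κ, _, b, hb, -, ⟨Ψ⟩⟩ := ptype_spec g'
  obtain ⟨C⟩ := pmdl_congr a b (by rw [ha, hb, h])
  obtain ⟨P, hP⟩ := exists_conj_of_equiv ((Φ.trans C).trans Ψ.symm)
  exact isConj_iff.2 ⟨P, mul_inv_eq_iff_eq_mul.2 (Units.ext hP)⟩

/-- The rank of a power of a polynomial in a matrix. -/
noncomputable def rankOf (A : Matrix (Fin n) (Fin n) F) (P : F[X]) (k : ℕ) : ℕ :=
  finrank F (LinearMap.range (Matrix.toLin' ((aeval A P) ^ k)))

open scoped Classical in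
/-- The rank read off from a type. -/
noncomputable def typeRank (S : Multiset (F[X] × ℕ)) (P : F[X]) (k : ℕ) : ℕ :=
  (S.map fun x => x.1.natDegree * (x.2 - if x.1 = P then k else 0)).sum

theorem lsmul_matMod (A : Matrix (Fin n) (Fin n) F) (f : F[X]) :
    ((LinearMap.lsmul F[X] (MatMod A) f).restrictScalars F : MatMod A →ₗ[F] MatMod A) =
      (AEval'.of (Matrix.toLin' A)).conj (Matrix.toLin' (aeval A f)) := by
  refine LinearMap.ext fun x => ?_
  obtain ⟨v, rfl⟩ := (AEval'.of (Matrix.toLin' A)).surjective x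
  rw [LinearEquiv.conj_apply_apply, LinearEquiv.symm_apply_apply]
  have h : aeval (Matrix.toLin' A) f = Matrix.toLin' (aeval A f) :=
    aeval_algHom_apply (Matrix.toLinAlgEquiv' (R := F) (n := Fin n)) A f
  show f • AEval'.of (Matrix.toLin' A) v = _
  rw [← h]
  exact (AEval.of_aeval_smul (Matrix.toLin' A) f v).symm

theorem finrank_range_conj {M N : Type*} [AddCommGroup M] [Module F M] [AddCommGroup N] [Module F N]
    (e : M ≃ₗ[F] N) (f : Module.End F M) :
    finrank F (LinearMap.range (e.conj f)) = finrank F (LinearMap.range f) := by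
  rw [LinearEquiv.conj_apply, LinearMap.comp_assoc, LinearMap.range_comp,
    LinearMap.range_comp_of_range_eq_top _ (LinearEquiv.range _)]
  exact LinearEquiv.finrank_map_eq _ _

theorem rankOf_eq {g : GL (Fin n) F} {S : Multiset (F[X] × ℕ)} (hS : HasPType g S) {P : F[X]}
    (hP : P.Monic) (hirr : Irreducible P) (k : ℕ) :
    rankOf (g : Matrix (Fin n) (Fin n) F) P k = typeRank S P k := by
  classical
  obtain ⟨ι, hι, pe, rfl, hg, ⟨Φ⟩⟩ := hS
  have hm : ∀ i, (pe i).1.Monic ∧ Irreducible (pe i).1 := fun i =>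
    ⟨(hg.1 _ (Multiset.mem_map_of_mem _ (Finset.mem_univ i))).1,
      (hg.1 _ (Multiset.mem_map_of_mem _ (Finset.mem_univ i))).2.1⟩
  haveI : ∀ i, Module.Finite F (F[X] ⧸ Ideal.span {(pe i).1 ^ (pe i).2}) := fun i =>
    finite_quot (pow_ne_zero _ (hm i).1.ne_zero)
  have h1 := CfsgLib.NilTypes.finrank_range_of_iso Φ (P ^ k)
  rw [lsmul_matMod, finrank_range_conj, map_pow] at h1
  refine h1.trans ?_
  have h2 : ((LinearMap.lsmul F[X] (PMdl pe) (P ^ k)).restrictScalars F : PMdl pe →ₗ[F] PMdl pe) =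
      LinearMap.pi fun i => (mulEnd ((pe i).1 ^ (pe i).2) (P ^ k)).comp (LinearMap.proj i) :=
    LinearMap.ext fun v => rfl
  rw [h2, finrank_range_piMap, typeRank, Multiset.map_map]
  refine Finset.sum_congr rfl fun i _ => ?_
  simp only [Function.comp_apply]
  rcases eq_or_ne (pe i).1 P with hq | hq
  · rw [if_pos hq, hq, finrank_range_mulEnd_pow hP.ne_zero]
  · rw [if_neg hq, Nat.sub_zero, finrank_range_mulEnd_coprime, natDegree_pow, mul_comm]
    refine IsCoprime.pow ((hirr.coprime_iff_not_dvd).2 fun hd => hq ?_)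
    exact (eq_of_monic_of_associated hP (hm i).1 (hirr.associated_of_dvd (hm i).2 hd)).symm

theorem good_ext {S T : Multiset (F[X] × ℕ)} {m : ℕ} (hS : GoodType n S) (hT : GoodType m T)
    (h : ∀ P : F[X], P.Monic → Irreducible P → ∀ k, typeRank S P k = typeRank T P k) : S = T := by
  classical
  have hdrop : ∀ (U : Multiset (F[X] × ℕ)) (P : F[X]) (k : ℕ), typeRank U P k =
      typeRank U P (k + 1) + P.natDegree * (U.filter fun x => x.1 = P ∧ k < x.2).card := by
    intro U P k
    induction U using Multiset.induction with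
    | empty => simp [typeRank]
    | cons a U ih =>
      simp only [typeRank, Multiset.map_cons, Multiset.sum_cons, Multiset.filter_cons] at ih ⊢
      rcases eq_or_ne a.1 P with ha | ha
      · rcases Nat.lt_or_ge k a.2 with hk | hk
        · rw [if_pos ha, if_pos ha, if_pos ⟨ha, hk⟩, Multiset.singleton_add, Multiset.card_cons, ih, ha,
            show a.2 - k = (a.2 - (k + 1)) + 1 by omega]
          ring
        · rw [if_pos ha, if_pos ha, if_neg (fun h => absurd h.2 (by omega)), zero_add, ih,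
            show a.2 - k = 0 by omega, show a.2 - (k + 1) = 0 by omega]
          ring
      · rw [if_neg ha, if_neg ha, if_neg (fun h => ha h.1), zero_add, ih]
        ring
  have hsplit : ∀ (U : Multiset (F[X] × ℕ)) (P : F[X]) (k : ℕ),
      (U.filter fun x => x.1 = P ∧ k < x.2).card =
        U.count (P, k + 1) + (U.filter fun x => x.1 = P ∧ k + 1 < x.2).card := fun U P k => by
    induction U using Multiset.induction with
    | empty => simp
    | cons a U ih =>
      obtain ⟨Q, e⟩ := a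
      simp only [Multiset.filter_cons, Multiset.count_cons, Multiset.card_add, ih, Prod.mk.injEq]
      by_cases hQ : Q = P
      · subst hQ
        simp only [true_and]
        split_ifs <;> simp only [Multiset.card_singleton, Multiset.card_zero] <;> omega
      · simp only [hQ, Ne.symm hQ, false_and, if_false, Multiset.card_zero]
        omega
  refine Multiset.ext.2 fun x => ?_
  obtain ⟨P, j⟩ := x
  by_cases hPj : P.Monic ∧ Irreducible P ∧ 0 < j
  · obtain ⟨hP, hirr, hj⟩ := hPj
    obtain ⟨j, rfl⟩ := Nat.exists_eq_succ_of_ne_zero hj.ne'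
    have hd := hirr.natDegree_pos
    have hc : ∀ k, (S.filter fun x => x.1 = P ∧ k < x.2).card =
        (T.filter fun x => x.1 = P ∧ k < x.2).card := fun k => by
      have h1 := hdrop S P k
      rw [h P hP hirr k, h P hP hirr (k + 1)] at h1
      exact Nat.eq_of_mul_eq_mul_left hd (by have := hdrop T P k; omega)
    have h1 := hsplit S P j
    have h2 := hsplit T P j
    have := hc j
    have := hc (j + 1)
    show S.count (P, j + 1) = T.count (P, j + 1)
    omega
  · rw [Multiset.count_eq_zero_of_notMem fun hx => hPj ⟨(hS.1 _ hx).1, (hS.1 _ hx).2.1, (hS.1 _ hx).2.2.2⟩,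
      Multiset.count_eq_zero_of_notMem fun hx => hPj ⟨(hT.1 _ hx).1, (hT.1 _ hx).2.1, (hT.1 _ hx).2.2.2⟩]

theorem rankOf_of_semiconj (Q : GL (Fin n) F) {A B : Matrix (Fin n) (Fin n) F}
    (h : (Q : Matrix (Fin n) (Fin n) F) * A = B * (Q : Matrix (Fin n) (Fin n) F)) (P : F[X]) (k : ℕ) :
    rankOf A P k = rankOf B P k := by
  have hc : ∀ f : F[X], SemiconjBy (Q : Matrix (Fin n) (Fin n) F) (aeval A f) (aeval B f) := by
    intro f
    induction f using Polynomial.induction_on' with
    | add p q hp hq => rw [map_add, map_add]; exact hp.add_right hq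
    | monomial i a =>
      rw [aeval_monomial, aeval_monomial]
      exact (show SemiconjBy _ _ _ from (Algebra.commutes a (Q : Matrix (Fin n) (Fin n) F)).symm).mul_right
        ((show SemiconjBy _ A B from h).pow_right i)
  have h1 : (aeval B P) ^ k = (Q : Matrix (Fin n) (Fin n) F) * (aeval A P) ^ k *
      ((Q⁻¹ : GL (Fin n) F) : Matrix (Fin n) (Fin n) F) := by
    rw [((hc P).pow_right k).eq, mul_assoc, Units.mul_inv, mul_one]
  let C : (Fin n → F) ≃ₗ[F] (Fin n → F) :=
    LinearEquiv.ofLinearMap (Matrix.toLin' (Q : Matrix (Fin n) (Fin n) F))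
      (Matrix.toLin' ((Q⁻¹ : GL (Fin n) F) : Matrix (Fin n) (Fin n) F))
      (by rw [← Matrix.toLin'_mul, Units.mul_inv, Matrix.toLin'_one])
      (by rw [← Matrix.toLin'_mul, Units.inv_mul, Matrix.toLin'_one])
  rw [rankOf, rankOf, h1, Matrix.toLin'_mul, Matrix.toLin'_mul,
    LinearMap.range_comp_of_range_eq_top _ (show LinearMap.range (Matrix.toLin'
      ((Q⁻¹ : GL (Fin n) F) : Matrix (Fin n) (Fin n) F)) = ⊤ from LinearMap.range_eq_top.2 C.symm.surjective),
    LinearMap.range_comp]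
  exact (LinearEquiv.finrank_map_eq C _).symm

theorem ptype_eq_of_isConj {g g' : GL (Fin n) F} (h : IsConj g g') : ptype g = ptype g' := by
  obtain ⟨Q, hQ⟩ := isConj_iff.1 h
  refine good_ext (ptype_good g) (ptype_good g') fun P hP hirr k => ?_
  rw [← rankOf_eq (ptype_spec g) hP hirr, ← rankOf_eq (ptype_spec g') hP hirr]
  exact rankOf_of_semiconj Q (congrArg Units.val (mul_inv_eq_iff_eq_mul.1 hQ)) P k

/-- Scaling the variable, normalised to keep monic polynomials monic. -/
noncomputable def twist (ζ : F) (P : F[X]) : F[X] := C (ζ ^ P.natDegree)⁻¹ * P.comp (C ζ * X)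

theorem twist_monic {ζ : F} (hζ : ζ ≠ 0) {P : F[X]} (hP : P.Monic) :
    (twist ζ P).Monic ∧ (twist ζ P).natDegree = P.natDegree := by
  have hd : (C ζ * X : F[X]).natDegree = 1 := natDegree_C_mul_X ζ hζ
  have h1 : (P.comp (C ζ * X)).natDegree = P.natDegree := by rw [natDegree_comp, hd, mul_one]
  have h2 : (P.comp (C ζ * X)).leadingCoeff = ζ ^ P.natDegree := by
    rw [leadingCoeff_comp (by rw [hd]; exact one_ne_zero), hP.leadingCoeff, one_mul, leadingCoeff_C_mul_X]
  refine ⟨?_, ?_⟩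
  · rw [twist, Polynomial.Monic, leadingCoeff_mul, leadingCoeff_C, h2, inv_mul_cancel₀ (pow_ne_zero _ hζ)]
  · rw [twist, natDegree_C_mul (inv_ne_zero (pow_ne_zero _ hζ)), h1]

theorem twist_inv {ζ : F} (hζ : ζ ≠ 0) {P : F[X]} (hP : P.Monic) : twist ζ⁻¹ (twist ζ P) = P := by
  rw [twist, (twist_monic hζ hP).2, twist, mul_comp, C_comp, comp_assoc]
  simp only [mul_comp, C_comp, X_comp]
  rw [← mul_assoc (C ζ), ← C_mul, mul_inv_cancel₀ hζ, map_one, one_mul, comp_X, ← mul_assoc, ← C_mul,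
    inv_pow, inv_inv, mul_inv_cancel₀ (pow_ne_zero _ hζ), map_one, one_mul]

theorem twist_irreducible {ζ : F} (hζ : ζ ≠ 0) {P : F[X]} (hP : Irreducible P) :
    Irreducible (twist ζ P) := by
  let σ : F[X] ≃ₐ[F] F[X] := AlgEquiv.ofAlgHom (aeval (C ζ * X)) (aeval (C ζ⁻¹ * X))
    (algHom_ext (by simp [← mul_assoc, ← C_mul, hζ]))
    (algHom_ext (by simp [← mul_assoc, ← C_mul, hζ]))
  have h : Irreducible (σ P) := (MulEquiv.irreducible_iff σ).2 hP
  rw [twist, comp_eq_aeval]
  exact (irreducible_isUnit_mul (isUnit_C.2 (inv_ne_zero (pow_ne_zero _ hζ)).isUnit)).2 h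

theorem twist_coeff_zero (ζ : F) (P : F[X]) : (twist ζ P).coeff 0 = (ζ ^ P.natDegree)⁻¹ * P.coeff 0 := by
  simp [twist, coeff_zero_eq_eval_zero, eval_comp]

theorem ptype_scale {g g' : GL (Fin n) F} {ζ : F} (hζ : ζ ≠ 0)
    (h : (g' : Matrix (Fin n) (Fin n) F) = ζ • (g : Matrix (Fin n) (Fin n) F)) :
    ptype g' = (ptype g).map (fun x => (twist ζ⁻¹ x.1, x.2)) := by
  classical
  have hg := ptype_good g
  have hi := inv_ne_zero hζ
  have hgood : GoodType n ((ptype g).map fun x => (twist ζ⁻¹ x.1, x.2)) := by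
    refine ⟨fun x hx => ?_, ?_⟩
    · obtain ⟨y, hy, rfl⟩ := Multiset.mem_map.1 hx
      obtain ⟨h1, h2, h3, h4⟩ := hg.1 y hy
      refine ⟨(twist_monic hi h1).1, twist_irreducible hi h2, ?_, h4⟩
      rw [twist_coeff_zero]
      exact mul_ne_zero (inv_ne_zero (pow_ne_zero _ hi)) h3
    · rw [Multiset.map_map]
      exact (congrArg Multiset.sum (Multiset.map_congr rfl fun y hy => by
        simp only [Function.comp_apply, (twist_monic hi (hg.1 y hy).1).2])).trans hg.2
  refine good_ext (ptype_good g') hgood fun P hP hirr k => ?_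
  rw [← rankOf_eq (ptype_spec g') hP hirr, h]
  have h1 : rankOf (ζ • (g : Matrix (Fin n) (Fin n) F)) P k =
      rankOf (g : Matrix (Fin n) (Fin n) F) (twist ζ P) k := by
    have e1 : aeval (ζ • (g : Matrix (Fin n) (Fin n) F)) P =
        (ζ ^ P.natDegree) • aeval (g : Matrix (Fin n) (Fin n) F) (twist ζ P) := by
      rw [twist, map_mul, aeval_C, Algebra.algebraMap_eq_smul_one, smul_mul_assoc, one_mul, smul_smul,
        mul_inv_cancel₀ (pow_ne_zero _ hζ), one_smul, aeval_comp, map_mul, aeval_C, aeval_X,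
        Algebra.smul_def]
    rw [rankOf, rankOf, e1, _root_.smul_pow, map_smul, LinearMap.range_smul _ _ (pow_ne_zero _ (pow_ne_zero _ hζ))]
  rw [h1, rankOf_eq (ptype_spec g) (twist_monic hζ hP).1 (twist_irreducible hζ hirr), typeRank, typeRank,
    Multiset.map_map]
  refine congrArg Multiset.sum (Multiset.map_congr rfl fun y hy => ?_)
  have hy1 := (hg.1 y hy).1
  simp only [Function.comp_apply, (twist_monic hi hy1).2]
  refine congrArg (fun t => y.1.natDegree * (y.2 - t)) (if_congr ⟨fun e => ?_, fun e => ?_⟩ rfl rfl)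
  · rw [e, twist_inv hζ hP]
  · rw [← e]
    have := twist_inv hi hy1
    rw [inv_inv] at this
    exact this.symm

theorem det_toLin_eq {g : GL (Fin n) F} {S : Multiset (F[X] × ℕ)} (hS : HasPType g S) :
    (g : Matrix (Fin n) (Fin n) F).det =
      (S.map fun x => ((-1) ^ x.1.natDegree * x.1.coeff 0) ^ x.2).prod := by
  obtain ⟨ι, hι, pe, rfl, hg, ⟨Φ⟩⟩ := hS
  have hm : ∀ i, (pe i).1.Monic ∧ Irreducible (pe i).1 := fun i =>
    ⟨(hg.1 _ (Multiset.mem_map_of_mem _ (Finset.mem_univ i))).1,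
      (hg.1 _ (Multiset.mem_map_of_mem _ (Finset.mem_univ i))).2.1⟩
  haveI : ∀ i, Module.Finite F (F[X] ⧸ Ideal.span {(pe i).1 ^ (pe i).2}) := fun i =>
    finite_quot (pow_ne_zero _ (hm i).1.ne_zero)
  have h1 : Matrix.toLin' (g : Matrix (Fin n) (Fin n) F) =
      ((AEval'.of (Matrix.toLin' (g : Matrix (Fin n) (Fin n) F))).trans (Φ.restrictScalars F)).symm.conj
        (LinearMap.pi fun i => (mulEnd ((pe i).1 ^ (pe i).2) X).comp (LinearMap.proj i)) := by
    refine LinearMap.ext fun v => ?_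
    rw [LinearEquiv.conj_apply_apply, LinearEquiv.eq_symm_apply]
    show Φ (AEval'.of _ (Matrix.toLin' (g : Matrix (Fin n) (Fin n) F) v)) = (X : F[X]) • Φ (AEval'.of _ v)
    rw [← AEval'.X_smul_of, map_smul]
  rw [← LinearMap.det_toLin', h1,
    det_equiv_conj (M := PMdl pe) (N := Fin n → F)
      ((AEval'.of (Matrix.toLin' (g : Matrix (Fin n) (Fin n) F))).trans (Φ.restrictScalars F)).symm,
    det_piMap, Multiset.map_map]
  refine Finset.prod_congr rfl fun i _ => ?_
  rw [det_mulEnd_pow (hm i).1.ne_zero, det_mulEnd_X (hm i).1 (hm i).2]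
  rfl

theorem exists_commute_det_pow [Finite F] (g : GL (Fin n) F) {x : F[X] × ℕ} (hx : x ∈ ptype g) (c : Fˣ) :
    ∃ Q : GL (Fin n) F, Q * g = g * Q ∧ (Q : Matrix (Fin n) (Fin n) F).det = (c : F) ^ x.2 := by
  classical
  obtain ⟨ι, hι, pe, hpe, hg, ⟨Φ⟩⟩ := ptype_spec g
  rw [← hpe] at hx
  obtain ⟨i, -, rfl⟩ := Multiset.mem_map.1 hx
  have hm : ∀ i, (pe i).1.Monic ∧ Irreducible (pe i).1 := fun i =>
    ⟨(hg.1 _ (hpe ▸ Multiset.mem_map_of_mem _ (Finset.mem_univ i))).1,
      (hg.1 _ (hpe ▸ Multiset.mem_map_of_mem _ (Finset.mem_univ i))).2.1⟩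
  haveI : ∀ i, Module.Finite F (F[X] ⧸ Ideal.span {(pe i).1 ^ (pe i).2}) := fun i =>
    finite_quot (pow_ne_zero _ (hm i).1.ne_zero)
  haveI : Fact (Irreducible (pe i).1) := ⟨(hm i).2⟩
  haveI : Module.Finite F (AdjoinRoot (pe i).1) := (AdjoinRoot.powerBasis (hm i).1.ne_zero).finite
  haveI : Finite (AdjoinRoot (pe i).1) := Module.finite_of_finite F
  obtain ⟨k, hk⟩ := FiniteField.norm_surjective F (AdjoinRoot (pe i).1) (c : F)
  obtain ⟨k, rfl⟩ := AdjoinRoot.mk_surjective k
  let μ : Module.End F (PMdl pe) :=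
    LinearMap.pi fun j => (mulEnd ((pe j).1 ^ (pe j).2) (if j = i then k else 1)).comp (LinearMap.proj j)
  have hμ : LinearMap.det μ = (c : F) ^ (pe i).2 := by
    rw [det_piMap, Finset.prod_eq_single i]
    · rw [if_pos rfl, det_mulEnd_pow (hm i).1.ne_zero, det_mulEnd_eq_norm (hm i).1.ne_zero, hk]
    · intro j _ hji
      rw [if_neg hji, det_mulEnd_pow (hm j).1.ne_zero, det_mulEnd_eq_norm (hm j).1.ne_zero, map_one, map_one,
        one_pow]
    · exact fun h => absurd (Finset.mem_univ i) h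
  let E := (AEval'.of (Matrix.toLin' (g : Matrix (Fin n) (Fin n) F))).trans (Φ.restrictScalars F)
  let T : Module.End F (Fin n → F) := E.symm.conj μ
  have hT : LinearMap.det T = (c : F) ^ (pe i).2 :=
    (det_equiv_conj (M := PMdl pe) (N := Fin n → F) E.symm μ).trans hμ
  have hne : (LinearMap.toMatrix' T).det ≠ 0 := by
    rw [LinearMap.det_toMatrix', hT]
    exact pow_ne_zero _ c.ne_zero
  refine ⟨Matrix.GeneralLinearGroup.mkOfDetNeZero _ hne, Units.ext ?_, ?_⟩
  · show LinearMap.toMatrix' T * (g : Matrix (Fin n) (Fin n) F) = (g : Matrix (Fin n) (Fin n) F) * LinearMap.toMatrix' T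
    refine Matrix.toLin'.injective (LinearMap.ext fun v => ?_)
    simp only [Matrix.toLin'_mul, Matrix.toLin'_toMatrix', LinearMap.comp_apply]
    have hE : ∀ v, E (Matrix.toLin' (g : Matrix (Fin n) (Fin n) F) v) = (X : F[X]) • E v := fun v => by
      show Φ (AEval'.of _ (Matrix.toLin' (g : Matrix (Fin n) (Fin n) F) v)) = (X : F[X]) • Φ (AEval'.of _ v)
      rw [← AEval'.X_smul_of, map_smul]
    apply E.injective
    rw [hE]
    simp only [T, LinearEquiv.conj_apply_apply, LinearEquiv.symm_symm, LinearEquiv.apply_symm_apply]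
    rw [hE]
    exact _root_.funext fun j => smul_comm (if j = i then k else 1 : F[X]) (X : F[X]) (E v j)
  · show (LinearMap.toMatrix' T).det = _
    rw [LinearMap.det_toMatrix', hT]

end CfsgLib.SLBound
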